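import Cfsg.Agent.Omega.IId.Ns.Defs
import Cfsg.Agent.Omega.IId.NLFree
import Cfsg.Agent.Omega.IId.TwoPlus

/-!
# II.d, nonsplit, all `k`: LEMMA END (bb #20284) and (10) (bb #20814)

`PB` : the pair `(N₁, N₁')` = `(A, A')` with coordinates, `U = g(F)`, `U' = e(F)`, `R = U U'`.

* `PB.lemma_end` : LEMMA END;
* `PB.false_of_nine` : `C_G(R) = A A' C_G(A A')` and `C_G(A)` has nonabelian Sylow 2-subgroups: contradiction.
-/

set_option autoImplicit false
set_option linter.unusedSectionVars false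

namespace Cfsg.Agent.Omega.IId.NsK

open Subgroup Cfsg Cfsg.Agent.ZN Cfsg.Agent.Lib.SL2Mat
open Cfsg.Agent.Omega.HOne.NSMod Cfsg.Agent.Omega.HOne.NSSide Cfsg.Agent.Omega.HOne.NSPair
open Cfsg.Agent.Omega.NatPair (ap ap_add ap_mul ap_one ap_inj ext2 ap_zero' ap_one' ap_inv_ap ap_ap_inv)
open Cfsg.Agent.MinSimple.VModule (le_o2 o2_le o2_isPGroup le_normalizer_o2)
open Cfsg.Agent.Omega.BTwo (cj mem_cj conj_mem_cj mem_normalizer_of_conj isPGroup_cj centralizer_cj)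
open Cfsg.Agent.Omega.IId.NLFree (isPGroup_of_odd eq_one_of_odd comm_of_odd exists_fix_mod)
open Cfsg.Agent.Omega.IId.TwoPlus (exists_conj_le)

universe u

variable {G : Type u} [Group G] {F : Type} [Field F]

/-! ### Coprime action -/

theorem exists_grow [Finite G] {P R : Subgroup G} (hR : IsPGroup 2 R) (hle : P ≤ R)
    (hne : P ≠ R) : ∃ n ∈ R, n ∉ P ∧ ∀ x ∈ P, n * x * n⁻¹ ∈ P := by
  have hfact : Fact (Nat.Prime 2) := ⟨Nat.prime_two⟩
  have hnil : Group.IsNilpotent R := hR.isNilpotent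
  have hnc : NormalizerCondition R := Group.normalizerCondition_of_isNilpotent
  have hlt : P.subgroupOf R < ⊤ := by
    rw [lt_top_iff_ne_top]
    intro h
    rw [subgroupOf_eq_top] at h
    exact hne (le_antisymm hle h)
  have h1 := hnc _ hlt
  obtain ⟨n, hn, hn'⟩ := SetLike.exists_of_lt h1
  refine ⟨n, n.2, fun h => hn' (mem_subgroupOf.2 h), fun x hx => ?_⟩
  have h2 := (mem_normalizer_iff.1 hn ⟨x, hle hx⟩).1 (mem_subgroupOf.2 hx)
  exact mem_subgroupOf.1 h2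

/-- an element `y` of odd order normalising the 2-group `W` and centralising `W₁ ≤ W` with `C_W(W₁) ≤ W₁` centralises
`W` -/
theorem comm_of_selfcent [Finite G] {W W₁ : Subgroup G} (hW : IsPGroup 2 W) (h1 : W₁ ≤ W)
    (h2 : W ⊓ centralizer (W₁ : Set G) ≤ W₁) {y : G} (hy : Odd (orderOf y)) (hyW : y ∈ normalizer (W : Set G))
    (hy1 : ∀ d ∈ W₁, y * d = d * y) : ∀ w ∈ W, y * w = w * y := by
  set D : Subgroup G := W ⊓ centralizer ({y} : Set G) with hD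
  have memD : ∀ w, w ∈ D ↔ w ∈ W ∧ y * w = w * y := fun w => by
    rw [hD, mem_inf, mem_centralizer_singleton_iff]
    exact ⟨fun h => ⟨h.1, h.2.symm⟩, fun h => ⟨h.1, h.2.symm⟩⟩
  by_contra hne
  have hDW : D ≠ W := by
    intro h
    apply hne
    intro w hw
    rw [← h] at hw
    exact ((memD w).1 hw).2
  obtain ⟨w, hw, hwD, hwn⟩ := exists_grow hW (inf_le_left : D ≤ W) hDW
  have hwn' : w⁻¹ ∈ normalizer (D : Set G) := (normalizer (D : Set G)).inv_mem (mem_normalizer_of_conj hwn)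
  apply hwD
  rw [memD]
  refine ⟨hw, ?_⟩
  have ht : y * w * y⁻¹ * w⁻¹ ∈ W ⊓ centralizer (W₁ : Set G) := by
    refine mem_inf.2 ⟨mul_mem ((mem_normalizer_iff.1 hyW w).1 hw) (inv_mem hw), mem_centralizer_iff.2 fun d hd => ?_⟩
    have h3 : w⁻¹ * d * w ∈ D := by
      have := (mem_normalizer_iff.1 hwn' d).1 ((memD d).2 ⟨h1 hd, hy1 d hd⟩)
      rwa [inv_inv] at this
    have h4 := ((memD _).1 h3).2
    have h5 : y⁻¹ * (w⁻¹ * d * w) = (w⁻¹ * d * w) * y⁻¹ := by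
      calc y⁻¹ * (w⁻¹ * d * w) = y⁻¹ * ((w⁻¹ * d * w) * y) * y⁻¹ := by group
        _ = y⁻¹ * (y * (w⁻¹ * d * w)) * y⁻¹ := by rw [h4]
        _ = _ := by group
    have h6 := hy1 d hd
    calc d * (y * w * y⁻¹ * w⁻¹) = (d * y) * w * y⁻¹ * w⁻¹ := by group
      _ = (y * d) * w * y⁻¹ * w⁻¹ := by rw [h6]
      _ = y * w * ((w⁻¹ * d * w) * y⁻¹) * w⁻¹ := by group
      _ = y * w * (y⁻¹ * (w⁻¹ * d * w)) * w⁻¹ := by rw [h5]
      _ = y * w * y⁻¹ * w⁻¹ * d := by group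
  exact comm_of_odd hy hW ht.1 (hy1 _ (h2 ht))

/-! ### The pair -/

/-- the pair: `U = g(F) = e'(F)`, `U' = g'(F) = e(F)` -/
structure PB (T T' L L' A A' U U' : Subgroup G) (π π' : G → Fin 2 → F) (e f g e' f' g' : F → G) : Prop where
  p : PairF T T' L L' A A' U U' π π' e f g e' f' g' A A'
  c1 : ∀ z, ∃ y, e z = g' y
  c2 : ∀ z, ∃ y, e' z = g y

variable {T T' L L' A A' U U' : Subgroup G} {π π' : G → Fin 2 → F} {e f g e' f' g' : F → G}

/-- `x` induces `B` on `A / U` -/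
def Rp (A : Subgroup G) (π : G → Fin 2 → F) (x : G) (B : Matrix.SpecialLinearGroup (Fin 2) F) : Prop :=
  ∀ v ∈ A, π (x * v * x⁻¹) = ap B (π v)

theorem Rp.one : Rp A π 1 1 := fun v _ => by rw [one_mul, inv_one, mul_one, ap_one]

theorem Rp.mul {x y : G} {B C : Matrix.SpecialLinearGroup (Fin 2) F} (hy : y ∈ normalizer (A : Set G))
    (h : Rp A π x B) (h' : Rp A π y C) : Rp A π (x * y) (B * C) := by
  intro v hv
  have e1 : x * y * v * (x * y)⁻¹ = x * (y * v * y⁻¹) * x⁻¹ := by group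
  rw [e1, h _ ((mem_normalizer_iff.1 hy v).1 hv), h' v hv, ap_mul]

theorem Rp.inv {x : G} {B : Matrix.SpecialLinearGroup (Fin 2) F} (hx : x ∈ normalizer (A : Set G))
    (h : Rp A π x B) : Rp A π x⁻¹ B⁻¹ := by
  intro v hv
  have h1 := h _ ((mem_normalizer_iff.1 (inv_mem hx) v).1 hv)
  have e1 : x * (x⁻¹ * v * x⁻¹⁻¹) * x⁻¹ = v := by group
  rw [e1] at h1
  rw [h1, ap_inv_ap]

theorem Rp.pow {x : G} {B : Matrix.SpecialLinearGroup (Fin 2) F} (hx : x ∈ normalizer (A : Set G))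
    (h : Rp A π x B) (k : ℕ) : Rp A π (x ^ k) (B ^ k) := by
  induction k with
  | zero => rw [pow_zero, pow_zero]; exact Rp.one
  | succ k ih => rw [pow_succ, pow_succ]; exact Rp.mul hx ih h

/-- the Weyl element -/
structure Wy (A U : Subgroup G) (π : G → Fin 2 → F) (n : G) : Prop where
  nA : n ∈ normalizer (A : Set G)
  rp : Rp A π n (wm 1 one_ne_zero)
  cU : ∀ u ∈ U, n * u = u * n

namespace PB

variable (b : PB T T' L L' A A' U U' π π' e f g e' f' g')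

include b

theorem symm : PB T' T L' L A' A U' U π' π e' f' g' e f g := ⟨b.p.symm, b.c2, b.c1⟩

theorem eA (z : F) : e z ∈ A := b.p.φ.eV z
theorem gU (z : F) : g z ∈ U := b.p.φ.gD z
theorem UA : U ≤ A := b.p.s.r.DV
theorem gA (z : F) : g z ∈ A := b.UA (b.gU z)

theorem eU' (z : F) : e z ∈ U' := by
  obtain ⟨y, hy⟩ := b.c1 z
  rw [hy]; exact b.p.φ'.gD y

theorem mem_U {x : G} : x ∈ U ↔ ∃ y, x = g y :=
  ⟨fun hx => b.p.φ.ND x (b.p.s.r.DV hx) hx, by rintro ⟨y, rfl⟩; exact b.p.φ.gD y⟩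

theorem mem_U' [Finite F] {x : G} : x ∈ U' ↔ ∃ z, x = e z := by
  constructor
  · intro hx
    obtain ⟨y, rfl⟩ := b.symm.mem_U.1 hx
    choose h hh using b.c1
    have hi : Function.Injective h := by
      intro z z' hz
      have h1 := hh z
      rw [hz, ← hh z'] at h1
      exact b.p.φ.e_inj b.p.s.r h1
    obtain ⟨z, rfl⟩ := Finite.surjective_of_injective hi y
    exact ⟨z, (hh z).symm⟩
  · rintro ⟨z, rfl⟩
    exact b.eU' z

theorem U'A [Finite F] : U' ≤ A := by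
  intro x hx
  obtain ⟨z, rfl⟩ := b.mem_U'.1 hx
  exact b.eA z

theorem Ac {x y : G} (hx : x ∈ A) (hy : y ∈ A) : x * y = y * x := b.p.s.r.Vc x hx y hy

theorem two : (2 : F) = 0 := b.p.s.r.two

/-- an element of `A` with `π = 0` is in `U` -/
theorem mem_U_of {v : G} (hv : v ∈ A) (h : π v = 0) : v ∈ U := (b.p.s.r.ker v hv).1 h

/-- the elements of `C(U) ∩ C(U')` commute with `e`, `g` -/
theorem cc_iff [Finite F] {x : G} : x ∈ centralizer (U : Set G) ⊓ centralizer (U' : Set G) ↔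
    (∀ z, x * e z = e z * x) ∧ ∀ z, x * g z = g z * x := by
  rw [mem_inf, mem_centralizer_iff, mem_centralizer_iff]
  constructor
  · rintro ⟨h1, h2⟩
    exact ⟨fun z => (h2 _ (b.eU' z)).symm, fun z => (h1 _ (b.gU z)).symm⟩
  · rintro ⟨h1, h2⟩
    refine ⟨fun u hu => ?_, fun u hu => ?_⟩
    · obtain ⟨y, rfl⟩ := b.mem_U.1 hu
      exact (h2 y).symm
    · obtain ⟨y, rfl⟩ := b.mem_U'.1 hu
      exact (h1 y).symm

theorem A_cc [Finite F] : A ≤ centralizer (U : Set G) ⊓ centralizer (U' : Set G) := fun _ hx =>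
  ⟨mem_centralizer_iff.2 fun _ hu => b.Ac (b.UA hu) hx, mem_centralizer_iff.2 fun _ hu => b.Ac (b.U'A hu) hx⟩

theorem cA_cc [Finite F] : centralizer (A : Set G) ≤ centralizer (U : Set G) ⊓ centralizer (U' : Set G) :=
  le_inf (centralizer_le b.UA) (centralizer_le b.U'A)

/-- the elements of `A'` normalise `A` -/
theorem A'_norm : A' ≤ normalizer (A : Set G) := by
  intro m hm
  have hmL : m ∈ L := b.p.s.SP (b.p.s.AS hm)
  rw [mem_normalizer_iff]
  intro v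
  refine ⟨fun hv => b.p.s.r.Vn m hmL v hv, fun hv => ?_⟩
  have := b.p.s.r.Vn m⁻¹ (inv_mem hmL) _ hv
  have e1 : m⁻¹ * (m * v * m⁻¹) * m⁻¹⁻¹ = v := by group
  rwa [e1] at this

theorem exists_m (t : F) : ∃ m ∈ A', Rp A π m (lo (t ^ 2)) ∧
    ∀ v ∈ A, m * v * m⁻¹ = e (t ^ 2 * π v 0) * g (t * π v 0) * v := by
  obtain ⟨m, hm, hI⟩ := b.p.s.full (t ^ 2)
  exact ⟨m, hm, fun v hv => hI.act v hv, fun v hv => b.p.φ.act t m hI v hv⟩

theorem typ_m {m : G} (hm : m ∈ A') : ∃ t, ∀ v ∈ A, m * v * m⁻¹ = e (t ^ 2 * π v 0) * g (t * π v 0) * v := by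
  obtain ⟨β, hβ⟩ := b.p.s.typ m hm
  obtain ⟨t, rfl⟩ := b.p.sq β
  exact ⟨t, fun v hv => b.p.φ.act t m hβ v hv⟩

/-- `e(F), g(F)` are contained in a group containing all `e (t² z) g (t z)` -/
theorem eg_le (h4 : ∃ ω : F, ω ≠ 0 ∧ ω ≠ 1) {W : Subgroup G} (h : ∀ t z, e (t ^ 2 * z) * g (t * z) ∈ W) :
    (∀ z, e z ∈ W) ∧ ∀ z, g z ∈ W := by
  have h2 := b.two
  have k1 : ∀ (t : F), t ≠ 0 → ∀ z, e z * g (t * z) ∈ W := by
    intro t ht z
    have h3 := h t⁻¹ (t ^ 2 * z)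
    have e1 : t⁻¹ ^ 2 * (t ^ 2 * z) = z := by
      rw [← mul_assoc, ← mul_pow, inv_mul_cancel₀ ht, one_pow, one_mul]
    have e2 : t⁻¹ * (t ^ 2 * z) = t * z := by
      rw [pow_two, mul_assoc, ← mul_assoc, inv_mul_cancel₀ ht, one_mul]
    rwa [e1, e2] at h3
  obtain ⟨ω, h0, h1⟩ := h4
  have hω : 1 + ω ≠ 0 := fun h => h1 (by linear_combination h - h2)
  have k2 : ∀ z, g z ∈ W := by
    intro z
    have h3 := k1 1 one_ne_zero (z / (1 + ω))
    have h5 := k1 ω h0 (z / (1 + ω))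
    have h6 := mul_mem (inv_mem h3) h5
    have e1 : (e (z / (1 + ω)) * g (1 * (z / (1 + ω))))⁻¹ * (e (z / (1 + ω)) * g (ω * (z / (1 + ω)))) =
        (g (1 * (z / (1 + ω))))⁻¹ * g (ω * (z / (1 + ω))) := by group
    rw [e1, b.p.s.r.inv (b.gA _), ← b.p.φ.g_add] at h6
    have e2 : 1 * (z / (1 + ω)) + ω * (z / (1 + ω)) = z := by
      rw [← add_mul, mul_div_cancel₀ _ hω]
    rwa [e2] at h6
  refine ⟨fun z => ?_, k2⟩
  have h3 := mul_mem (k1 1 one_ne_zero z) (inv_mem (k2 (1 * z)))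
  rwa [mul_inv_cancel_right] at h3

theorem pi_n {n : G} (hn : Wy A U π n) {v : G} (hv : v ∈ A) : π (n * v * n⁻¹) = ![π v 1, - π v 0] := by
  rw [hn.rp v hv, ap_wm]
  apply ext2 <;> simp

/-- `A = n e(F) n⁻¹ · e(F) · U` -/
theorem A_le {W : Subgroup G} {n : G} (hn : Wy A U π n) (h1 : ∀ z, e z ∈ W)
    (h2 : ∀ z, n * e z * n⁻¹ ∈ W) (h3 : ∀ z, g z ∈ W) : A ≤ W := by
  intro a ha
  have hne : ∀ z, n * e z * n⁻¹ ∈ A := fun z => (mem_normalizer_iff.1 hn.nA _).1 (b.eA z)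
  have h4 : (n * e (π a 0) * n⁻¹)⁻¹ * (a * (e (π a 1))⁻¹) ∈ U := by
    refine b.mem_U_of (mul_mem (inv_mem (hne _)) (mul_mem ha (inv_mem (b.eA _)))) ?_
    rw [b.p.s.r.mul _ (inv_mem (hne _)) _ (mul_mem ha (inv_mem (b.eA _))), b.p.s.r.mul _ ha _ (inv_mem (b.eA _)),
      b.p.s.r.map_inv (hne _), b.p.s.r.map_inv (b.eA _), b.pi_n hn (b.eA _), b.p.φ.eπ, b.p.φ.eπ]
    apply ext2 <;> simp [Matrix.vecHead, Matrix.vecTail]
  obtain ⟨y, hy⟩ := b.mem_U.1 h4
  have e1 : a = (n * e (π a 0) * n⁻¹) * ((n * e (π a 0) * n⁻¹)⁻¹ * (a * (e (π a 1))⁻¹)) * e (π a 1) := by group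
  rw [e1, hy]
  exact mul_mem (mul_mem (h2 _) (h3 _)) (h1 _)

/-- a 2-group does not contain `A'` and a conjugate by the Weyl element: the product of order 3 -/
theorem false_of_pow {n m : G} (hn : Wy A U π n) (hm : m ∈ A') (hr : Rp A π m (lo 1)) {k : ℕ}
    (hk : ∀ v ∈ A, (m * (n * m * n⁻¹)) ^ 2 ^ k * v = v * (m * (n * m * n⁻¹)) ^ 2 ^ k) : False := by
  have hmN := b.A'_norm hm
  have hxN : n * m * n⁻¹ ∈ normalizer (A : Set G) := mul_mem (mul_mem hn.nA hmN) (inv_mem hn.nA)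
  have h1 : Rp A π (n * m * n⁻¹) (wm 1 one_ne_zero * lo 1 * (wm 1 one_ne_zero)⁻¹) :=
    Rp.mul (inv_mem hn.nA) (Rp.mul hmN hn.rp hr) (Rp.inv hn.nA hn.rp)
  have h2 := Rp.pow (mul_mem hmN hxN) (Rp.mul hxN hr h1) (2 ^ k)
  set B : Matrix.SpecialLinearGroup (Fin 2) F := lo 1 * (wm 1 one_ne_zero * lo 1 * (wm 1 one_ne_zero)⁻¹) with hB
  have e1 : wm (1 : F) one_ne_zero * lo 1 * (wm (1 : F) one_ne_zero)⁻¹ = up (-1) := by
    rw [wm_lo, mul_inv_cancel_right]; congr 1; ring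
  have h3 : B ^ 2 ^ k = 1 := by
    apply ap_inj
    intro x
    obtain ⟨v, hv, rfl⟩ := b.p.s.r.surj x
    have h4 := h2 v hv
    rw [hk v hv, mul_inv_cancel_right] at h4
    rw [← h4, ap_one]
  have h5 : B ^ 3 = 1 := by
    have h2 := b.two
    have e2 : (-1 : F) = 1 := by linear_combination -h2
    rw [hB, e1, e2, pow_succ, pow_two]
    apply ext_ent <;> simp [ent_mul] <;>
      first | linear_combination 2 * h2 | linear_combination 4 * h2 | linear_combination 6 * h2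
  have h6 : orderOf B = 1 := by
    have h7 := orderOf_dvd_of_pow_eq_one h3
    have h8 := orderOf_dvd_of_pow_eq_one h5
    exact Nat.Coprime.eq_one_of_dvd (Nat.Coprime.pow_right k (by
      have : Nat.Coprime (orderOf B) 2 := Nat.Coprime.coprime_dvd_left h8 (by norm_num)
      exact this)) h7
  rw [orderOf_eq_one_iff] at h6
  have h9 : ent B 1 0 = 1 := by rw [hB, e1]; simp [ent_mul]
  rw [h6] at h9
  simp at h9

/-- an element of `W` acting non-trivially on `A` puts `A` into `W` -/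
theorem A_le_of_act (hω : ∃ ω : F, ω ≠ 0 ∧ ω ≠ 1) {W : Subgroup G} (hWA : A ≤ normalizer (W : Set G))
    (hWA' : A' ≤ normalizer (W : Set G)) {n : G} (hn : Wy A U π n) (hnW : n ∈ normalizer (W : Set G)) {c : G}
    (hc : c ∈ W) {t : F} (ht : t ≠ 0) (hct : ∀ v ∈ A, c * v * c⁻¹ = e (t ^ 2 * π v 0) * g (t * π v 0) * v) :
    A ≤ W := by
  have k0 : ∀ z, e (t ^ 2 * z) * g (t * z) ∈ W := by
    intro z
    have h1 := hct (f z) (b.p.φ.fV z)
    have h2 : π (f z) 0 = z := by rw [b.p.φ.fπ]; rfl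
    rw [h2] at h1
    have h3 : c * (f z * c⁻¹ * (f z)⁻¹) ∈ W :=
      mul_mem hc ((mem_normalizer_iff.1 (hWA (b.p.φ.fV z)) _).1 (inv_mem hc))
    have e1 : c * (f z * c⁻¹ * (f z)⁻¹) = e (t ^ 2 * z) * g (t * z) := by
      calc c * (f z * c⁻¹ * (f z)⁻¹) = (c * f z * c⁻¹) * (f z)⁻¹ := by group
        _ = _ := by rw [h1, mul_inv_cancel_right]
    rwa [e1] at h3
  have k1 : ∀ s z, e (s ^ 2 * z) * g (s * z) ∈ W := by
    intro s z
    obtain ⟨m, hm, hr, hact⟩ := b.exists_m s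
    have h1 := k0 (z / t ^ 2)
    have hvA : e (t ^ 2 * (z / t ^ 2)) * g (t * (z / t ^ 2)) ∈ A := mul_mem (b.eA _) (b.gA _)
    have hπ : π (e (t ^ 2 * (z / t ^ 2)) * g (t * (z / t ^ 2))) = ![0, z] := by
      rw [b.p.φ.egπ b.p.s.r, mul_div_cancel₀ _ (pow_ne_zero 2 ht)]
    generalize e (t ^ 2 * (z / t ^ 2)) * g (t * (z / t ^ 2)) = v at h1 hvA hπ
    have h2 : n * v * n⁻¹ ∈ W := (mem_normalizer_iff.1 hnW v).1 h1
    have h3 : n * v * n⁻¹ ∈ A := (mem_normalizer_iff.1 hn.nA v).1 hvA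
    have h4 : π (n * v * n⁻¹) 0 = z := by rw [b.pi_n hn hvA, hπ]; rfl
    have h5 := hact _ h3
    rw [h4] at h5
    have h6 : m * (n * v * n⁻¹) * m⁻¹ * (n * v * n⁻¹)⁻¹ ∈ W :=
      mul_mem ((mem_normalizer_iff.1 (hWA' hm) _).1 h2) (inv_mem h2)
    rwa [h5, mul_inv_cancel_right] at h6
  obtain ⟨k2, k3⟩ := b.eg_le hω k1
  exact b.A_le hn k2 (fun z => (mem_normalizer_iff.1 hnW _).1 (k2 z)) k3

/-- **LEMMA END** (helper441, bb #20284) -/
theorem lemma_end [Finite G] [Finite F] (hω : ∃ ω : F, ω ≠ 0 ∧ ω ≠ 1) {H : Subgroup G}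
    (hch : H ⊓ centralizer (o2 H : Set G) ≤ o2 H) (hA : A ≤ H) (hA' : A' ≤ H) {n n' : G} (hn : Wy A U π n)
    (hnH : n ∈ H) (hn' : Wy A' U' π' n') (hnH' : n' ∈ H)
    (hC : ∀ c ∈ o2 H, c ∈ centralizer (U : Set G) ⊓ centralizer (U' : Set G) →
      (∃ t, ∀ v ∈ A, c * v * c⁻¹ = e (t ^ 2 * π v 0) * g (t * π v 0) * v) ∧
        ∃ t, ∀ v ∈ A', c * v * c⁻¹ = e' (t ^ 2 * π' v 0) * g' (t * π' v 0) * v) : False := by
  have hW : IsPGroup 2 (o2 H) := o2_isPGroup H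
  have hHW : H ≤ normalizer (o2 H : Set G) := le_normalizer_o2 H
  set W := o2 H with hWd
  have cjW : ∀ x ∈ H, ∀ w ∈ W, x * w * x⁻¹ ∈ W := fun x hx w hw => (mem_normalizer_iff.1 (hHW hx) w).1 hw
  -- `A' ≰ W`, `A ≰ W`
  have no1 : ¬ A' ≤ W := by
    intro h
    obtain ⟨m, hm, hr, -⟩ := b.exists_m 1
    rw [one_pow] at hr
    have hx : m * (n * m * n⁻¹) ∈ W := mul_mem (h hm) (cjW n hnH m (h hm))
    obtain ⟨k, hk⟩ := hW ⟨_, hx⟩
    have hk' : (m * (n * m * n⁻¹)) ^ 2 ^ k = 1 := congrArg Subtype.val hk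
    exact b.false_of_pow hn hm hr (k := k) (fun v _ => by rw [hk', one_mul, mul_one])
  have no2 : ¬ A ≤ W := by
    intro h
    obtain ⟨m, hm, hr, -⟩ := b.symm.exists_m 1
    rw [one_pow] at hr
    have hx : m * (n' * m * n'⁻¹) ∈ W := mul_mem (h hm) (cjW n' hnH' m (h hm))
    obtain ⟨k, hk⟩ := hW ⟨_, hx⟩
    have hk' : (m * (n' * m * n'⁻¹)) ^ 2 ^ k = 1 := congrArg Subtype.val hk
    exact b.symm.false_of_pow hn' hm hr (k := k) (fun v _ => by rw [hk', one_mul, mul_one])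
  -- `C_W(R)` centralises `A` and `A'`
  have hc : ∀ c ∈ W, c ∈ centralizer (U : Set G) ⊓ centralizer (U' : Set G) →
      (∀ v ∈ A, c * v = v * c) ∧ ∀ v ∈ A', c * v = v * c := by
    intro c hcW hcC
    obtain ⟨⟨t, ht⟩, t', ht'⟩ := hC c hcW hcC
    constructor
    · by_cases h0 : t = 0
      · intro v hv
        have h1 := ht v hv
        rw [h0, zero_pow two_ne_zero, zero_mul, b.p.φ.e0, b.p.φ.g0, one_mul, one_mul] at h1
        exact mul_inv_eq_iff_eq_mul.1 h1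
      · exact absurd (b.A_le_of_act hω (hA.trans hHW) (hA'.trans hHW) hn (hHW hnH) hcW h0 ht) no2
    · by_cases h0 : t' = 0
      · intro v hv
        have h1 := ht' v hv
        rw [h0, zero_pow two_ne_zero, zero_mul, b.p.φ'.e0, b.p.φ'.g0, one_mul, one_mul] at h1
        exact mul_inv_eq_iff_eq_mul.1 h1
      · exact absurd (b.symm.A_le_of_act hω (hA'.trans hHW) (hA.trans hHW) hn' (hHW hnH') hcW h0 ht') no1
  set W₁ : Subgroup G := W ⊓ (centralizer (U : Set G) ⊓ centralizer (U' : Set G)) with hW₁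
  have memW₁ : ∀ c, c ∈ W₁ → c ∈ W ∧ (∀ v ∈ A, c * v = v * c) ∧ ∀ v ∈ A', c * v = v * c :=
    fun c h => ⟨h.1, hc c h.1 h.2⟩
  have W₁of : ∀ c ∈ W, (∀ v ∈ A, c * v = v * c) → c ∈ W₁ := fun c hcW h =>
    ⟨hcW, b.cA_cc (mem_centralizer_iff.2 fun v hv => (h v hv).symm)⟩
  have hnW₁ : ∀ c ∈ W₁, n⁻¹ * c * n ∈ W₁ := by
    intro c h
    refine W₁of _ ?_ fun v hv => ?_
    · have := cjW n⁻¹ (inv_mem hnH) c (memW₁ c h).1
      rwa [inv_inv] at this
    · have h1 := (memW₁ c h).2.1 _ ((mem_normalizer_iff.1 hn.nA v).1 hv)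
      calc n⁻¹ * c * n * v = n⁻¹ * (c * (n * v * n⁻¹)) * n := by group
        _ = n⁻¹ * ((n * v * n⁻¹) * c) * n := by rw [h1]
        _ = _ := by group
  by_cases hsc : W ⊓ centralizer (W₁ : Set G) ≤ W₁
  · -- `C_H(W₁)` is a 2-group
    have hX : IsPGroup 2 (H ⊓ centralizer (W₁ : Set G) : Subgroup G) := by
      apply isPGroup_of_odd
      rintro x ⟨hxH, hxc⟩ ho
      have h1 := comm_of_selfcent hW (inf_le_left : W₁ ≤ W) hsc ho (hHW hxH)
        (fun d hd => (mem_centralizer_iff.1 hxc d hd).symm)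
      exact eq_one_of_odd hW (hch ⟨hxH, mem_centralizer_iff.2 fun w hw => (h1 w hw).symm⟩) ho
    obtain ⟨m, hm, hr, -⟩ := b.exists_m 1
    rw [one_pow] at hr
    have hx : m * (n * m * n⁻¹) ∈ H ⊓ centralizer (W₁ : Set G) := by
      refine mem_inf.2 ⟨mul_mem (hA' hm) (mul_mem (mul_mem hnH (hA' hm)) (inv_mem hnH)),
        mem_centralizer_iff.2 fun d hd => ?_⟩
      have h1 := (memW₁ d hd).2.2 m hm
      have h2 := (memW₁ _ (hnW₁ d hd)).2.2 m hm
      calc d * (m * (n * m * n⁻¹)) = (d * m) * n * m * n⁻¹ := by group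
        _ = (m * d) * n * m * n⁻¹ := by rw [h1]
        _ = m * n * ((n⁻¹ * d * n) * m) * n⁻¹ := by group
        _ = m * n * (m * (n⁻¹ * d * n)) * n⁻¹ := by rw [h2]
        _ = _ := by group
    obtain ⟨k, hk⟩ := hX ⟨_, hx⟩
    have hk' : (m * (n * m * n⁻¹)) ^ 2 ^ k = 1 := congrArg Subtype.val hk
    exact b.false_of_pow hn hm hr (k := k) (fun v _ => by rw [hk', one_mul, mul_one])
  · -- `W₅ = C_W(W₁)`
    set W₅ : Subgroup G := W ⊓ centralizer (W₁ : Set G) with hW₅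
    have c51 : ∀ x ∈ W₅, ∀ d ∈ W₁, x * d = d * x := fun x hx d hd => (mem_centralizer_iff.1 hx.2 d hd).symm
    have n5 : ∀ x ∈ H, (∀ d ∈ W₁, d * x = x * d) → ∀ w ∈ W₅, x * w * x⁻¹ ∈ W₅ := by
      intro x hx hxd w hw
      refine ⟨cjW x hx w hw.1, mem_centralizer_iff.2 fun d hd => ?_⟩
      have h1 := hxd d hd
      have h2 := c51 w hw d hd
      have h3 : x⁻¹ * d = d * x⁻¹ := by
        calc x⁻¹ * d = x⁻¹ * (d * x) * x⁻¹ := by group
          _ = x⁻¹ * (x * d) * x⁻¹ := by rw [h1]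
          _ = _ := by group
      calc d * (x * w * x⁻¹) = (d * x) * w * x⁻¹ := by group
        _ = x * (d * w) * x⁻¹ := by rw [h1]; group
        _ = x * w * (d * x⁻¹) := by rw [← h2]; group
        _ = _ := by rw [← h3]; group
    set Z₁ : Subgroup G := W₅ ⊓ W₁ with hZ₁
    have hAn5 : A ≤ normalizer (W₅ : Set G) := fun a ha =>
      mem_normalizer_of_conj (n5 a (hA ha) fun d hd => (memW₁ d hd).2.1 a ha)
    have hS : IsPGroup 2 (W₅ ⊔ A : Subgroup G) :=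
      IsPGroup.to_sup_of_normal_left' (hW.to_le inf_le_left) (fun a => ⟨1, by
        rw [pow_one, pow_two]
        exact Subtype.ext (b.p.s.r.Vs a a.2)⟩) hAn5
    have hSZ : W₅ ⊔ A ≤ normalizer (Z₁ : Set G) := by
      refine sup_le ?_ ?_
      · intro x hx
        apply mem_normalizer_of_conj
        intro z hz
        rw [c51 x hx z hz.2, mul_inv_cancel_right]
        exact hz
      · intro a ha
        apply mem_normalizer_of_conj
        intro z hz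
        rw [← (memW₁ z hz.2).2.1 a ha, mul_inv_cancel_right]
        exact hz
    obtain ⟨w, hw5, hwZ, hwf⟩ := exists_fix_mod (S := W₅ ⊔ A) (M := Z₁) (Q := W₅) hS
      (inf_le_left.trans le_sup_left) le_sup_left hSZ (sup_le le_normalizer hAn5)
      (fun h => hsc (h.trans inf_le_right))
    have hwA : ∀ a ∈ A, a * w * a⁻¹ * w⁻¹ ∈ Z₁ := fun a ha => hwf a (mem_sup_right ha)
    -- `A'` centralises `w` mod `Z₁`
    have hwA' : ∀ m ∈ A', m * w * m⁻¹ * w⁻¹ ∈ Z₁ := by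
      intro m hm
      set t := m * w * m⁻¹ * w⁻¹ with ht
      have ht5 : t ∈ W₅ := mul_mem (n5 m (hA' hm) (fun d hd => (memW₁ d hd).2.2 m hm) w hw5) (inv_mem hw5)
      refine mem_inf.2 ⟨ht5, mem_inf.2 ⟨ht5.1, b.cc_iff.2 ?_⟩⟩
      have key : ∀ r ∈ A, m * r = r * m → t * r = r * t := by
        intro r hr hmr
        have h1 := hwA r hr
        set a := r * w * r⁻¹ * w⁻¹ with ha
        have h2 : r * w * r⁻¹ = a * w := by rw [ha]; group
        have h3 : a * m = m * a := (memW₁ a h1.2).2.2 m hm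
        have h4 := c51 t ht5 a h1.2
        have h5 : m⁻¹ * r⁻¹ = r⁻¹ * m⁻¹ := by rw [← mul_inv_rev, ← mul_inv_rev, hmr]
        have h6 : r * t * r⁻¹ = t := by
          calc r * t * r⁻¹ = (r * m) * w * m⁻¹ * w⁻¹ * r⁻¹ := by rw [ht]; group
            _ = m * (r * w * r⁻¹) * r * m⁻¹ * w⁻¹ * r⁻¹ := by rw [← hmr]; group
            _ = m * (r * w * r⁻¹) * (m⁻¹ * r⁻¹)⁻¹⁻¹ * r * r * w⁻¹ * r⁻¹ := by
              have e1 : r * m⁻¹ = m⁻¹ * r := by
                calc r * m⁻¹ = m⁻¹ * (m * r) * m⁻¹ := by group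
                  _ = m⁻¹ * (r * m) * m⁻¹ := by rw [hmr]
                  _ = _ := by group
              calc m * (r * w * r⁻¹) * r * m⁻¹ * w⁻¹ * r⁻¹ = m * (r * w * r⁻¹) * (r * m⁻¹) * w⁻¹ * r⁻¹ := by group
                _ = m * (r * w * r⁻¹) * (m⁻¹ * r) * w⁻¹ * r⁻¹ := by rw [e1]
                _ = _ := by group
            _ = m * (r * w * r⁻¹) * m⁻¹ * (r * w * r⁻¹)⁻¹ := by group
            _ = (m * a) * w * m⁻¹ * w⁻¹ * a⁻¹ := by rw [h2]; group
            _ = (a * m) * w * m⁻¹ * w⁻¹ * a⁻¹ := by rw [h3]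
            _ = (a * t) * a⁻¹ := by rw [ht]; group
            _ = t := by rw [← h4, mul_inv_cancel_right]
        exact (mul_inv_eq_iff_eq_mul.1 h6).symm
      have hmc := b.symm.A_cc hm
      exact ⟨fun z => key _ (b.eA z) ((mem_centralizer_iff.1 hmc.1 _ (b.eU' z)).symm),
        fun z => key _ (b.gA z) ((mem_centralizer_iff.1 hmc.2 _ (b.gU z)).symm)⟩
    -- `[A, A']` centralises `w`
    have hcw : ∀ s z, e (s ^ 2 * z) * g (s * z) ∈ centralizer ({w} : Set G) := by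
      intro s z
      obtain ⟨m, hm, -, hact⟩ := b.exists_m s
      have h0 : π (f z) 0 = z := by rw [b.p.φ.fπ]; rfl
      have h1 := hact (f z) (b.p.φ.fV z)
      rw [h0] at h1
      have haA := b.p.φ.fV z
      generalize f z = a at h1 haA
      have h2 := hwA a haA
      have h3 := hwA' m hm
      set za := a * w * a⁻¹ * w⁻¹ with hza
      set t := m * w * m⁻¹ * w⁻¹ with ht
      have e2 : a * w * a⁻¹ = za * w := by rw [hza]; group
      have e3 : m * w * m⁻¹ = t * w := by rw [ht]; group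
      have c1 : t * m = m * t := (memW₁ t h3.2).2.2 m hm
      have c2 : za * m = m * za := (memW₁ za h2.2).2.2 m hm
      have c3 : t * a = a * t := (memW₁ t h3.2).2.1 a haA
      have c4 : t * za = za * t := c51 t h3.1 za h2.2
      have e4 : m⁻¹ * w * m = t⁻¹ * w := by
        have h5 : t * (m⁻¹ * w * m) = w := by
          calc t * (m⁻¹ * w * m) = m⁻¹ * (m * t) * m⁻¹ * w * m := by group
            _ = m⁻¹ * (t * m) * m⁻¹ * w * m := by rw [c1]
            _ = m⁻¹ * (t * w) * m := by group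
            _ = m⁻¹ * (m * w * m⁻¹) * m := by rw [e3]
            _ = w := by group
        calc m⁻¹ * w * m = t⁻¹ * (t * (m⁻¹ * w * m)) := by group
          _ = t⁻¹ * w := by rw [h5]
      have c3' : a * t⁻¹ = t⁻¹ * a := by
        calc a * t⁻¹ = t⁻¹ * (t * a) * t⁻¹ := by group
          _ = t⁻¹ * (a * t) * t⁻¹ := by rw [c3]
          _ = _ := by group
      have c1' : m * t⁻¹ = t⁻¹ * m := by
        calc m * t⁻¹ = t⁻¹ * (t * m) * t⁻¹ := by group
          _ = t⁻¹ * (m * t) * t⁻¹ := by rw [c1]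
          _ = _ := by group
      have h6 : (m * a * m⁻¹) * w * (m * a * m⁻¹)⁻¹ = za * w := by
        calc (m * a * m⁻¹) * w * (m * a * m⁻¹)⁻¹ = m * a * (m⁻¹ * w * m) * a⁻¹ * m⁻¹ := by group
          _ = m * (a * t⁻¹) * w * a⁻¹ * m⁻¹ := by rw [e4]; group
          _ = (m * t⁻¹) * (a * w * a⁻¹) * m⁻¹ := by rw [c3']; group
          _ = t⁻¹ * (m * za) * w * m⁻¹ := by rw [c1', e2]; group
          _ = t⁻¹ * za * (m * w * m⁻¹) := by rw [← c2]; group
          _ = t⁻¹ * (za * t) * w := by rw [e3]; group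
          _ = za * w := by rw [← c4]; group
      have h7 : e (s ^ 2 * z) * g (s * z) = a⁻¹ * (m * a * m⁻¹) := by
        rw [h1, b.Ac (mul_mem (b.eA _) (b.gA _)) haA, inv_mul_cancel_left]
      rw [h7, mem_centralizer_singleton_iff]
      have h8 : (a⁻¹ * (m * a * m⁻¹)) * w * (a⁻¹ * (m * a * m⁻¹))⁻¹ = w := by
        calc (a⁻¹ * (m * a * m⁻¹)) * w * (a⁻¹ * (m * a * m⁻¹))⁻¹
            = a⁻¹ * ((m * a * m⁻¹) * w * (m * a * m⁻¹)⁻¹) * a := by group
          _ = a⁻¹ * (a * w * a⁻¹) * a := by rw [h6, e2]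
          _ = w := by group
      exact mul_inv_eq_iff_eq_mul.1 h8
    obtain ⟨k2, k3⟩ := b.eg_le hω hcw
    apply hwZ
    exact mem_inf.2 ⟨hw5, mem_inf.2 ⟨hw5.1, b.cc_iff.2 ⟨fun z => ((mem_centralizer_singleton_iff.1 (k2 z))).symm,
      fun z => ((mem_centralizer_singleton_iff.1 (k3 z))).symm⟩⟩⟩

/-! ### (10) -/

/-- the elements of `A'` centralising `A` are in `A` -/
theorem A'_inf [Finite F] {m : G} (hm : m ∈ A') (hc : ∀ v ∈ A, m * v = v * m) : m ∈ A := by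
  have h1 : π' m 0 = 0 := (b.p.s'.cen m hm).1 fun a ha => (hc a ha).symm
  have h2 : (e' (π' m 1))⁻¹ * m ∈ U' := by
    refine b.symm.mem_U_of (mul_mem (inv_mem (b.symm.eA _)) hm) ?_
    rw [b.p.s'.r.mul _ (inv_mem (b.symm.eA _)) _ hm, b.p.s'.r.map_inv (b.symm.eA _), b.p.φ'.eπ]
    apply ext2
    · simp [h1]
    · simp
  have h3 : m = e' (π' m 1) * ((e' (π' m 1))⁻¹ * m) := by group
  rw [h3]
  exact mul_mem (b.UA (b.symm.eU' _)) (b.U'A h2)

/-- **(10)** (helper866, bb #20814): `C_G(R) = A A' C_G(A A')` is impossible -/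
theorem false_of_nine [Finite G] [Finite F] (hG : IsCharacteristicTwoType G) (hω : ∃ ω : F, ω ≠ 0 ∧ ω ≠ 1)
    (hnine : ∀ c ∈ centralizer (U : Set G) ⊓ centralizer (U' : Set G), ∃ a ∈ A, ∃ a' ∈ A',
      ∃ c₀ ∈ centralizer (A : Set G) ⊓ centralizer (A' : Set G), c = a * a' * c₀)
    (hna : ∃ Q : Subgroup G, IsPGroup 2 Q ∧ Q ≤ centralizer (A : Set G) ∧ ∃ x ∈ Q, ∃ y ∈ Q, x * y ≠ y * x) :
    False := by
  have hfact : Fact (Nat.Prime 2) := ⟨Nat.prime_two⟩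
  set C₀ : Subgroup G := centralizer (A : Set G) ⊓ centralizer (A' : Set G) with hC₀
  obtain ⟨R⟩ : Nonempty (Sylow 2 C₀) := inferInstance
  set S₀ : Subgroup G := (R : Subgroup C₀).map C₀.subtype with hS₀
  have hS₀2 : IsPGroup 2 S₀ := R.isPGroup'.map _
  have hS₀C : S₀ ≤ C₀ := map_subtype_le _
  -- `S₀` is maximal
  have hmax : ∀ X : Subgroup G, X ≤ C₀ → IsPGroup 2 X → S₀ ≤ X → X ≤ S₀ := by
    intro X hX hX2 hSX
    have h1 : (R : Subgroup C₀) ≤ X.subgroupOf C₀ := fun x hx => mem_subgroupOf.2 (hSX ⟨x, hx, rfl⟩)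
    have h2 := R.is_maximal' (hX2.comap_of_injective C₀.subtype C₀.subtype_injective) h1
    intro x hx
    exact ⟨⟨x, hX hx⟩, by rw [← h2]; exact hx, rfl⟩
  have hcA : ∀ a ∈ A, ∀ s ∈ C₀, a * s = s * a := fun a ha s hs => mem_centralizer_iff.1 hs.1 a ha
  have hcA' : ∀ a ∈ A', ∀ s ∈ C₀, a * s = s * a := fun a ha s hs => mem_centralizer_iff.1 hs.2 a ha
  have key : ∀ {T₁ T₁' L₁ L₁' B B' V V' : Subgroup G} {ρ ρ' : G → Fin 2 → F} {k h l k' h' l' : F → G}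
      (_ : PB T₁ T₁' L₁ L₁' B B' V V' ρ ρ' k h l k' h' l')
      (_ : centralizer (B : Set G) ⊓ centralizer (B' : Set G) = C₀)
      (_ : ∀ a ∈ B, ∀ s ∈ C₀, a * s = s * a)
      (_ : ∀ c ∈ centralizer (B : Set G), ∃ a ∈ B, ∃ c₀ ∈ C₀, c = a * c₀),
      ∃ Qh : Subgroup G, (∀ x, x ∈ Qh ↔ ∃ a ∈ B, ∃ s ∈ S₀, x = a * s) ∧ IsPGroup 2 Qh ∧
        Qh ≤ centralizer (B : Set G) ∧ ¬ 2 ∣ Qh.relIndex (centralizer (B : Set G)) := by
    intro T₁ T₁' L₁ L₁' B B' V V' ρ ρ' k h l k' h' l' d hC₁ hcB hdec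
    let Qh : Subgroup G :=
      { carrier := {x | ∃ a ∈ B, ∃ s ∈ S₀, x = a * s}
        one_mem' := ⟨1, one_mem _, 1, one_mem _, (one_mul 1).symm⟩
        mul_mem' := by
          rintro _ _ ⟨a, ha, s, hs, rfl⟩ ⟨a₁, ha₁, s₁, hs₁, rfl⟩
          refine ⟨a * a₁, mul_mem ha ha₁, s * s₁, mul_mem hs hs₁, ?_⟩
          have h1 := hcB a₁ ha₁ s (hS₀C hs)
          calc a * s * (a₁ * s₁) = a * (s * a₁) * s₁ := by group
            _ = _ := by rw [← h1]; group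
        inv_mem' := by
          rintro _ ⟨a, ha, s, hs, rfl⟩
          refine ⟨a⁻¹, inv_mem ha, s⁻¹, inv_mem hs, ?_⟩
          rw [mul_inv_rev]
          exact (hcB a⁻¹ (inv_mem ha) s⁻¹ (inv_mem (hS₀C hs))).symm }
    have hmem : ∀ x, x ∈ Qh ↔ ∃ a ∈ B, ∃ s ∈ S₀, x = a * s := fun x => Iff.rfl
    have hBQ : B ≤ Qh := fun a ha => ⟨a, ha, 1, one_mem _, (mul_one a).symm⟩
    have hSQ : S₀ ≤ Qh := fun s hs => ⟨1, one_mem _, s, hs, (one_mul s).symm⟩
    have hC₀B : C₀ ≤ centralizer (B : Set G) := by rw [← hC₁]; exact inf_le_left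
    have hQC : Qh ≤ centralizer (B : Set G) := by
      rintro _ ⟨a, ha, s, hs, rfl⟩
      refine mul_mem (mem_centralizer_iff.2 fun v hv => d.Ac hv ha) (hC₀B (hS₀C hs))
    have hQ2 : IsPGroup 2 Qh := by
      rintro ⟨_, a, ha, s, hs, rfl⟩
      obtain ⟨j, hj⟩ := hS₀2 ⟨s, hs⟩
      have hj' : s ^ 2 ^ j = 1 := congrArg Subtype.val hj
      refine ⟨j + 1, Subtype.ext ?_⟩
      change (a * s) ^ 2 ^ (j + 1) = 1
      have hc : Commute a s := hcB a ha s (hS₀C hs)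
      have haa : a ^ 2 = 1 := by rw [pow_two]; exact d.p.s.r.Vs a ha
      rw [hc.mul_pow, pow_succ, pow_mul s, hj', one_pow, mul_one, mul_comm, pow_mul, haa, one_pow]
    -- a Sylow group of `C(B)` over `Qh`
    obtain ⟨S₁, hS₁⟩ := (hQ2.comap_of_injective (centralizer (B : Set G)).subtype
      (centralizer (B : Set G)).subtype_injective : IsPGroup 2 (Qh.subgroupOf (centralizer (B : Set G)))).exists_le_sylow
    have hSle : (S₁ : Subgroup (centralizer (B : Set G))) ≤ Qh.subgroupOf (centralizer (B : Set G)) := by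
      rintro ⟨x, hxC⟩ hx
      obtain ⟨a, ha, c₀, hc₀, rfl⟩ := hdec x hxC
      have haS : (⟨a, hQC (hBQ ha)⟩ : centralizer (B : Set G)) ∈ (S₁ : Subgroup (centralizer (B : Set G))) :=
        hS₁ (mem_subgroupOf.2 (hBQ ha))
      have hcS : (⟨c₀, hC₀B hc₀⟩ : centralizer (B : Set G)) ∈ (S₁ : Subgroup (centralizer (B : Set G))) := by
        have h1 := mul_mem (inv_mem haS) hx
        have e1 : (⟨a, hQC (hBQ ha)⟩ : centralizer (B : Set G))⁻¹ * ⟨a * c₀, hxC⟩ = ⟨c₀, hC₀B hc₀⟩ :=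
          Subtype.ext (inv_mul_cancel_left a c₀)
        rwa [e1] at h1
      have h2 : (S₁ : Subgroup (centralizer (B : Set G))).map (centralizer (B : Set G)).subtype ⊓ C₀ ≤ S₀ := by
        refine hmax _ inf_le_right ((S₁.isPGroup'.map _).to_le inf_le_left) fun s hs => ⟨?_, hS₀C hs⟩
        exact ⟨⟨s, hC₀B (hS₀C hs)⟩, hS₁ (mem_subgroupOf.2 (hSQ hs)), rfl⟩
      exact mem_subgroupOf.2 ⟨a, ha, c₀, h2 ⟨⟨_, hcS, rfl⟩, hc₀⟩, rfl⟩
    have hEq : (S₁ : Subgroup (centralizer (B : Set G))) = Qh.subgroupOf (centralizer (B : Set G)) :=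
      le_antisymm hSle hS₁
    refine ⟨Qh, hmem, hQ2, hQC, ?_⟩
    rw [relIndex, ← hEq]
    exact S₁.not_dvd_index
  -- decompositions
  have hdec : ∀ c ∈ centralizer (A : Set G), ∃ a ∈ A, ∃ c₀ ∈ C₀, c = a * c₀ := by
    intro c hc
    obtain ⟨a, ha, a', ha', c₀, hc₀, rfl⟩ := hnine c (b.cA_cc hc)
    refine ⟨a * a', mul_mem ha (b.A'_inf ha' fun v hv => ?_), c₀, hc₀, rfl⟩
    have h1 := mem_centralizer_iff.1 hc v hv
    have h2 := b.Ac ha hv
    have h3 := hcA v hv c₀ hc₀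
    have h4 : a * (v * a') * c₀ = a * (a' * v) * c₀ := by
      calc a * (v * a') * c₀ = (a * v) * a' * c₀ := by group
        _ = v * (a * a' * c₀) := by rw [h2]; group
        _ = a * a' * (c₀ * v) := by rw [h1]; group
        _ = _ := by rw [← h3]; group
    exact (mul_left_cancel (mul_right_cancel h4)).symm
  have hdec' : ∀ c ∈ centralizer (A' : Set G), ∃ a ∈ A', ∃ c₀ ∈ C₀, c = a * c₀ := by
    intro c hc
    have hcC := b.symm.cA_cc hc
    obtain ⟨a, ha, a', ha', c₀, hc₀, rfl⟩ := hnine c ⟨hcC.2, hcC.1⟩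
    have haA' : a ∈ A' := b.symm.A'_inf ha fun v hv => by
      have h1 := mem_centralizer_iff.1 hc v hv
      have h2 := b.symm.Ac ha' hv
      have h3 := hcA' v hv c₀ hc₀
      have h4 : (a * v) * (a' * c₀) = (v * a) * (a' * c₀) := by
        calc (a * v) * (a' * c₀) = a * (v * a') * c₀ := by group
          _ = a * a' * (v * c₀) := by rw [← h2]; group
          _ = a * a' * c₀ * v := by rw [h3]; group
          _ = v * (a * a' * c₀) := h1.symm
          _ = _ := by group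
      exact mul_right_cancel h4
    exact ⟨a * a', mul_mem haA' ha', c₀, hc₀, rfl⟩
  obtain ⟨Qh, memQ, hQ2, hQC, hQi⟩ := key b rfl hcA hdec
  obtain ⟨Qh', memQ', hQ2', hQC', hQi'⟩ := key b.symm (by rw [hC₀, inf_comm]) hcA' hdec'
  -- `K`, generated by the squares of `S₀`
  set K : Subgroup G := closure {x | ∃ s ∈ S₀, x = s * s} with hK
  have hKS : K ≤ S₀ := by
    rw [hK, closure_le]
    rintro _ ⟨s, hs, rfl⟩
    exact mul_mem hs hs
  have hK2 : IsPGroup 2 K := hS₀2.to_le hKS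
  have sqK : ∀ x ∈ Qh, x * x ∈ K := by
    intro x hx
    obtain ⟨a, ha, s, hs, rfl⟩ := (memQ x).1 hx
    have h1 := hcA a ha s (hS₀C hs)
    have e1 : a * s * (a * s) = s * s := by
      calc a * s * (a * s) = a * (s * a) * s := by group
        _ = (a * a) * (s * s) := by rw [← h1]; group
        _ = s * s := by rw [b.p.s.r.Vs a ha, one_mul]
    rw [e1]
    exact subset_closure ⟨s, hs, rfl⟩
  have sqK' : ∀ x ∈ Qh', x * x ∈ K := by
    intro x hx
    obtain ⟨a, ha, s, hs, rfl⟩ := (memQ' x).1 hx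
    have h1 := hcA' a ha s (hS₀C hs)
    have e1 : a * s * (a * s) = s * s := by
      calc a * s * (a * s) = a * (s * a) * s := by group
        _ = (a * a) * (s * s) := by rw [← h1]; group
        _ = s * s := by rw [b.p.s'.r.Vs a ha, one_mul]
    rw [e1]
    exact subset_closure ⟨s, hs, rfl⟩
  have hK1 : K ≠ ⊥ := by
    intro hK0
    obtain ⟨Q, hQ, hQA, x, hx, y, hy, hxy⟩ := hna
    obtain ⟨c, hc, hcQ⟩ := exists_conj_le hQA hQ2 hQ hQi
    have hsq : ∀ z ∈ Qh, z * z = 1 := fun z hz => by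
      have := sqK z hz
      rw [hK0] at this
      exact mem_bot.1 this
    have h1 := hsq _ (hcQ x hx)
    have h2 := hsq _ (hcQ y hy)
    have h3 := hsq _ (mul_mem (hcQ x hx) (hcQ y hy))
    have e1 : x * x = 1 := by
      calc x * x = c⁻¹ * ((c * x * c⁻¹) * (c * x * c⁻¹)) * c := by group
        _ = 1 := by rw [h1]; group
    have e2 : y * y = 1 := by
      calc y * y = c⁻¹ * ((c * y * c⁻¹) * (c * y * c⁻¹)) * c := by group
        _ = 1 := by rw [h2]; group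
    have e3 : x * y * (x * y) = 1 := by
      calc x * y * (x * y) = c⁻¹ * ((c * x * c⁻¹ * (c * y * c⁻¹)) * (c * x * c⁻¹ * (c * y * c⁻¹))) * c := by group
        _ = 1 := by rw [h3]; group
    apply hxy
    calc x * y = x * (x * y * (x * y)) * y * (x * x) * (y * y) * (y * y)⁻¹ * (x * x)⁻¹ * y⁻¹ * y := by
          rw [e3, e1, e2]; group
      _ = (x * x) * y * x * (y * y) := by group
      _ = y * x := by rw [e1, e2]; group
  set H : Subgroup G := normalizer (K : Set G) with hH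
  have hch : H ⊓ centralizer (o2 H : Set G) ≤ o2 H := by
    rintro x ⟨hxH, hxc⟩
    have h1 := hG.2 K hK2 hK1
    have h2 : (⟨x, hxH⟩ : normalizer (K : Set G)) ∈
        centralizer (pCore 2 (normalizer (K : Set G)) : Set _) := by
      rw [mem_centralizer_iff]
      intro q hq
      refine Subtype.ext ?_
      have h3 : (q : G) ∈ o2 H := ⟨q, hq, rfl⟩
      exact mem_centralizer_iff.1 hxc _ h3
    exact ⟨_, h1 h2, rfl⟩
  have hcenK : ∀ x : G, (∀ s ∈ S₀, x * s = s * x) → x ∈ H := by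
    intro x hx
    apply mem_normalizer_of_conj
    intro z hz
    rw [hx z (hKS hz), mul_inv_cancel_right]
    exact hz
  -- Frattini
  have frat : ∀ {B Q₁ : Subgroup G} (_ : IsPGroup 2 Q₁) (_ : Q₁ ≤ centralizer (B : Set G))
      (_ : ¬ 2 ∣ Q₁.relIndex (centralizer (B : Set G))) (_ : S₀ ≤ Q₁) (_ : ∀ x ∈ Q₁, x * x ∈ K) {n : G}
      (_ : n ∈ normalizer (B : Set G)), ∃ y ∈ centralizer (B : Set G), y * n ∈ H := by
    intro B Q₁ hp hle hi hS hsq n hn
    have hX : cj n Q₁ ≤ centralizer (B : Set G) := by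
      intro x hx
      have h1 := mem_centralizer_iff.1 (hle (mem_cj.1 hx))
      refine mem_centralizer_iff.2 fun v hv => ?_
      have hv' : n⁻¹ * v * n ∈ B := by
        have := (mem_normalizer_iff.1 (inv_mem hn) v).1 hv
        rwa [inv_inv] at this
      have h2 := h1 _ hv'
      calc v * x = n * ((n⁻¹ * v * n) * (n⁻¹ * x * n)) * n⁻¹ := by group
        _ = n * ((n⁻¹ * x * n) * (n⁻¹ * v * n)) * n⁻¹ := by rw [h2]
        _ = _ := by group
    obtain ⟨y, hy, hyQ⟩ := exists_conj_le hX hp (isPGroup_cj hp) hi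
    refine ⟨y, hy, mem_normalizer_of_conj ?_⟩
    intro z hz
    rw [hK] at hz
    induction hz using closure_induction with
    | mem z hz =>
      obtain ⟨s, hs, rfl⟩ := hz
      have h1 := hyQ _ (conj_mem_cj (g := n) (hS hs))
      have h2 := hsq _ h1
      have e1 : y * n * (s * s) * (y * n)⁻¹ = (y * (n * s * n⁻¹) * y⁻¹) * (y * (n * s * n⁻¹) * y⁻¹) := by group
      rw [e1]
      exact h2
    | one => rw [mul_one, mul_inv_cancel]; exact one_mem _
    | mul z z' _ _ hz hz' =>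
      have e1 : y * n * (z * z') * (y * n)⁻¹ = (y * n * z * (y * n)⁻¹) * (y * n * z' * (y * n)⁻¹) := by group
      rw [e1]
      exact mul_mem hz hz'
    | inv z _ hz =>
      have e1 : y * n * z⁻¹ * (y * n)⁻¹ = (y * n * z * (y * n)⁻¹)⁻¹ := by group
      rw [e1]
      exact inv_mem hz
  have hSQ : S₀ ≤ Qh := fun s hs => (memQ s).2 ⟨1, one_mem _, s, hs, (one_mul s).symm⟩
  have hSQ' : S₀ ≤ Qh' := fun s hs => (memQ' s).2 ⟨1, one_mem _, s, hs, (one_mul s).symm⟩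
  -- Weyl elements
  have wey : ∀ {T₁ T₁' L₁ L₁' B B' V V' : Subgroup G} {ρ ρ' : G → Fin 2 → F} {k h l k' h' l' : F → G}
      (_ : PB T₁ T₁' L₁ L₁' B B' V V' ρ ρ' k h l k' h' l') {Q₁ : Subgroup G} (_ : IsPGroup 2 Q₁)
      (_ : Q₁ ≤ centralizer (B : Set G)) (_ : ¬ 2 ∣ Q₁.relIndex (centralizer (B : Set G))) (_ : S₀ ≤ Q₁)
      (_ : ∀ x ∈ Q₁, x * x ∈ K), ∃ n ∈ H, Wy B V ρ n := by
    intro T₁ T₁' L₁ L₁' B B' V V' ρ ρ' k h l k' h' l' d Q₁ hp hle hi hS hsq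
    obtain ⟨n, hn⟩ := d.p.s.r.is_lift (wm 1 one_ne_zero)
    have hnB : n ∈ normalizer (B : Set G) :=
      mem_normalizer_of_conj (d.p.s.r.Vn n hn.mem)
    obtain ⟨y, hy, hyn⟩ := frat hp hle hi hS hsq hnB
    have hyB : y ∈ normalizer (B : Set G) := centralizer_le_normalizer _ hy
    have hyc : ∀ v ∈ B, y * v = v * y := fun v hv => (mem_centralizer_iff.1 hy v hv).symm
    refine ⟨y * n, hyn, mul_mem hyB hnB, fun v hv => ?_, fun u hu => ?_⟩
    · have h1 := hyc _ (d.p.s.r.Vn n hn.mem v hv)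
      have e1 : y * n * v * (y * n)⁻¹ = (y * (n * v * n⁻¹)) * y⁻¹ := by group
      rw [e1, h1, mul_inv_cancel_right]
      exact hn.act v hv
    · rw [mul_assoc, hn.cen u hu, ← mul_assoc, hyc u (d.UA hu), mul_assoc]
  obtain ⟨n, hnH, hn⟩ := wey b hQ2 hQC hQi hSQ sqK
  obtain ⟨n', hnH', hn'⟩ := wey b.symm hQ2' hQC' hQi' hSQ' sqK'
  refine b.lemma_end hω hch (fun a ha => hcenK a fun s hs => hcA a ha s (hS₀C hs))
    (fun a ha => hcenK a fun s hs => hcA' a ha s (hS₀C hs)) hn hnH hn' hnH' ?_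
  intro c _ hc
  obtain ⟨a, ha, a', ha', c₀, hc₀, rfl⟩ := hnine c hc
  constructor
  · obtain ⟨t, ht⟩ := b.typ_m ha'
    refine ⟨t, fun v hv => ?_⟩
    have hv' : a' * v * a'⁻¹ ∈ A := (mem_normalizer_iff.1 (b.A'_norm ha') v).1 hv
    have h1 := hcA v hv c₀ hc₀
    have h2 := b.Ac ha hv'
    calc a * a' * c₀ * v * (a * a' * c₀)⁻¹ = a * a' * (c₀ * v) * c₀⁻¹ * a'⁻¹ * a⁻¹ := by group
      _ = a * (a' * v * a'⁻¹) * a⁻¹ := by rw [← h1]; group
      _ = a' * v * a'⁻¹ := by rw [h2, mul_inv_cancel_right]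
      _ = _ := ht v hv
  · obtain ⟨t, ht⟩ := b.symm.typ_m ha
    refine ⟨t, fun v hv => ?_⟩
    have h1 := hcA' v hv c₀ hc₀
    have h2 := b.symm.Ac ha' hv
    calc a * a' * c₀ * v * (a * a' * c₀)⁻¹ = a * a' * (c₀ * v) * c₀⁻¹ * a'⁻¹ * a⁻¹ := by group
      _ = a * (a' * v) * a'⁻¹ * a⁻¹ := by rw [← h1]; group
      _ = a * v * a⁻¹ := by rw [h2]; group
      _ = _ := ht v hv

end PB

end Cfsg.Agent.Omega.IId.NsK
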