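import Cfsg.Agent.Lib.ThompsonPQ
import Cfsg.Agent.Omega.NO3b.Dual

/-!
# II.d, nonsplit, all `k`: (10) LEMMA END (#20284, #20814)

`EndD.false` : `H` of characteristic 2 (`W = O₂(H)`), `N, N' ≤ H` abelian 2-groups, `R = [N, N'] ≤ N ∩ N'`, `X ≤ N_H(N)`
(`X' ≤ N_H(N')`) such that an `X`-invariant subgroup of `N` is `N` or lies in `U` (same for `N'`, `U'`), `R ≰ U`, `R ≰ U'`,
and `C_W(R)` normalises `N` and `N'`, elements of it centralising `N / U` centralise `N`: contradiction.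
-/

set_option autoImplicit false

namespace Cfsg.Agent.Omega.IId.NsK

open Subgroup

universe u

variable {G : Type u} [Group G]

/-- fixed points of a 2-group on `B / A` -/
theorem exists_fix [Finite G] {N A B : Subgroup G} (h2 : IsPGroup 2 ↥(N ⊔ B))
    (hNB : ∀ n ∈ N, ∀ b ∈ B, n * b * n⁻¹ ∈ B) (hAB : ¬ B ≤ A) :
    ∃ w ∈ B, w ∉ A ∧ ∀ n ∈ N, w * n * w⁻¹ * n⁻¹ ∈ A := by
  have : Fact (Nat.Prime 2) := ⟨Nat.prime_two⟩
  obtain ⟨n, hn⟩ := (Subgroup.isNilpotent_iff_lowerCentralSeries (N ⊔ B)).1 h2.isNilpotent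
  have hex : ∃ n, (N ⊔ B).lowerCentralSeries n ⊓ B ≤ A := ⟨n, by rw [hn, bot_inf_eq]; exact bot_le⟩
  classical
  obtain ⟨m, hm, hmin⟩ : ∃ m, (N ⊔ B).lowerCentralSeries m ⊓ B ≤ A ∧
      ∀ j < m, ¬ (N ⊔ B).lowerCentralSeries j ⊓ B ≤ A :=
    ⟨Nat.find hex, Nat.find_spec hex, fun j hj => Nat.find_min hex hj⟩
  cases m with
  | zero =>
    exfalso
    apply hAB
    intro b hb
    exact hm ⟨le_sup_right (a := N) hb, hb⟩
  | succ m =>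
    obtain ⟨w, hw, hwA⟩ := SetLike.not_le_iff_exists.1 (hmin m (Nat.lt_succ_self m))
    refine ⟨w, hw.2, hwA, fun n hn => hm ⟨?_, ?_⟩⟩
    · rw [Subgroup.lowerCentralSeries_succ]
      exact commutator_mem_commutator hw.1 (le_sup_left (b := B) hn)
    · have e : w * n * w⁻¹ * n⁻¹ = w * (n * w⁻¹ * n⁻¹) := by group
      rw [e]
      exact mul_mem hw.2 (hNB n hn _ (inv_mem hw.2))

/-- The data of LEMMA END. -/
structure EndD (H W X X' N N' U U' : Subgroup G) : Prop where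
  W2 : IsPGroup 2 W
  WH : W ≤ H
  Wn : ∀ x ∈ H, ∀ w ∈ W, x * w * x⁻¹ ∈ W
  char : H ⊓ centralizer (W : Set G) ≤ W
  NH : N ≤ H
  N'H : N' ≤ H
  N2 : IsPGroup 2 N
  N2' : IsPGroup 2 N'
  ab : ∀ a ∈ N, ∀ b ∈ N, a * b = b * a
  ab' : ∀ a ∈ N', ∀ b ∈ N', a * b = b * a
  cm : ∀ n ∈ N, ∀ n' ∈ N', n * n' * n⁻¹ * n'⁻¹ ∈ N
  cm' : ∀ n ∈ N, ∀ n' ∈ N', n * n' * n⁻¹ * n'⁻¹ ∈ N'
  nU : ¬ ⁅N, N'⁆ ≤ U
  nU' : ¬ ⁅N, N'⁆ ≤ U'
  XH : X ≤ H
  X'H : X' ≤ H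
  XN : ∀ x ∈ X, ∀ v ∈ N, x * v * x⁻¹ ∈ N
  XN' : ∀ x ∈ X', ∀ v ∈ N', x * v * x⁻¹ ∈ N'
  irr : ∀ M ≤ N, (∀ x ∈ X, ∀ v ∈ M, x * v * x⁻¹ ∈ M) → ¬ M ≤ U → M = N
  irr' : ∀ M ≤ N', (∀ x ∈ X', ∀ v ∈ M, x * v * x⁻¹ ∈ M) → ¬ M ≤ U' → M = N'
  star : ∀ w ∈ W, (∀ r ∈ ⁅N, N'⁆, w * r = r * w) → (∀ v ∈ N, w * v * w⁻¹ ∈ N) ∧
    ((∀ v ∈ N, w * v * w⁻¹ * v⁻¹ ∈ U) → ∀ v ∈ N, w * v = v * w)
  star' : ∀ w ∈ W, (∀ r ∈ ⁅N, N'⁆, w * r = r * w) → (∀ v ∈ N', w * v * w⁻¹ ∈ N') ∧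
    ((∀ v ∈ N', w * v * w⁻¹ * v⁻¹ ∈ U') → ∀ v ∈ N', w * v = v * w)

namespace EndD

variable {H W X X' N N' U U' : Subgroup G}

theorem symm (h : EndD H W X X' N N' U U') : EndD H W X' X N' N U' U where
  W2 := h.W2
  WH := h.WH
  Wn := h.Wn
  char := h.char
  NH := h.N'H
  N'H := h.NH
  N2 := h.N2'
  N2' := h.N2
  ab := h.ab'
  ab' := h.ab
  cm n hn n' hn' := by
    have := inv_mem (h.cm' n' hn' n hn)
    have e : (n' * n * n'⁻¹ * n⁻¹)⁻¹ = n * n' * n⁻¹ * n'⁻¹ := by group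
    rwa [e] at this
  cm' n hn n' hn' := by
    have := inv_mem (h.cm n' hn' n hn)
    have e : (n' * n * n'⁻¹ * n⁻¹)⁻¹ = n * n' * n⁻¹ * n'⁻¹ := by group
    rwa [e] at this
  nU := by rw [commutator_comm]; exact h.nU'
  nU' := by rw [commutator_comm]; exact h.nU
  XH := h.X'H
  X'H := h.XH
  XN := h.XN'
  XN' := h.XN
  irr := h.irr'
  irr' := h.irr
  star := by rw [commutator_comm]; exact h.star'
  star' := by rw [commutator_comm]; exact h.star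

theorem cN (h : EndD H W X X' N N' U U') : ⁅N, N'⁆ ≤ N := by
  rw [commutator_le]
  intro n hn n' hn'
  exact h.cm n hn n' hn'

theorem cN' (h : EndD H W X X' N N' U U') : ⁅N, N'⁆ ≤ N' := by
  rw [commutator_le]
  intro n hn n' hn'
  exact h.cm' n hn n' hn'

/-- `N'` normalises `N` -/
theorem nn (h : EndD H W X X' N N' U U') {n' : G} (hn' : n' ∈ N') {n : G} (hn : n ∈ N) : n' * n * n'⁻¹ ∈ N := by
  have h1 := h.cm n⁻¹ (inv_mem hn) n' hn'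
  have e : n' * n * n'⁻¹ = n * (n⁻¹ * n' * n⁻¹⁻¹ * n'⁻¹) := by group
  rw [e]
  exact mul_mem hn h1

theorem nn' (h : EndD H W X X' N N' U U') {n : G} (hn : n ∈ N) {n' : G} (hn' : n' ∈ N') : n * n' * n⁻¹ ∈ N' :=
  h.symm.nn hn hn'

/-- no 2-group `K ≥ N'` normalises `N` and is normalised by `X` -/
theorem nk [Finite G] (h : EndD H W X X' N N' U U') {K : Subgroup G} (hK : IsPGroup 2 K) (hN' : N' ≤ K)
    (hKN : ∀ y ∈ K, ∀ v ∈ N, y * v * y⁻¹ ∈ N) (hXK : ∀ x ∈ X, ∀ y ∈ K, x * y * x⁻¹ ∈ K) : False := by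
  have : Fact (Nat.Prime 2) := ⟨Nat.prime_two⟩
  have hn : K ≤ normalizer (N : Set G) := by
    intro y hy
    rw [mem_normalizer_iff]
    intro v
    refine ⟨fun hv => hKN y hy v hv, fun hv => ?_⟩
    have h1 := hKN _ (inv_mem hy) _ hv
    have e : y⁻¹ * (y * v * y⁻¹) * y⁻¹⁻¹ = v := by group
    rwa [e] at h1
  have hle : ⁅N, K⁆ ≤ N := (le_normalizer_iff_commutator_le_left).1 hn
  have heq : ⁅N, K⁆ = N := by
    refine h.irr _ hle ?_ ?_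
    · intro x hx v hv
      have h1 : ⁅N, K⁆.map (MulAut.conj x).toMonoidHom ≤ ⁅N, K⁆ := by
        rw [map_commutator]
        refine commutator_mono ?_ ?_
        · rintro _ ⟨v, hv, rfl⟩
          exact h.XN x hx v hv
        · rintro _ ⟨v, hv, rfl⟩
          exact hXK x hx v hv
      exact h1 ⟨v, hv, rfl⟩
    · intro hU
      exact h.nU ((commutator_mono le_rfl hN').trans hU)
  have hP : IsPGroup 2 ↥(N ⊔ K) := by
    have := h.N2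
    rw [sup_comm]
    exact hK.to_sup_of_normal_right' this hn
  have h1 := Cfsg.Agent.Omega.NO3b.Dual.commutator_lt (M := N) hP.isNilpotent le_sup_left
    (sup_le le_normalizer hn) (by
      rintro rfl
      apply h.nU
      rw [commutator_bot_left]
      exact bot_le)
  refine h1.ne (le_antisymm h1.le ?_)
  conv_lhs => rw [← heq]
  exact commutator_mono le_rfl le_sup_right

/-- an element of `C_W(R)` not centralising `N` forces `N ≤ W` -/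
theorem half (h : EndD H W X X' N N' U U') {w : G} (hw : w ∈ W) (hR : ∀ r ∈ ⁅N, N'⁆, w * r = r * w)
    (hne : ¬ ∀ v ∈ N, w * v = v * w) : N ≤ W := by
  obtain ⟨h1, h2⟩ := h.star w hw hR
  have h3 : ¬ ∀ v ∈ N, w * v * w⁻¹ * v⁻¹ ∈ U := fun h3 => hne (h2 h3)
  push Not at h3
  obtain ⟨v, hv, hvU⟩ := h3
  have heq : W ⊓ N = N := by
    refine h.irr _ inf_le_right ?_ ?_
    · intro x hx y hy
      exact ⟨h.Wn x (h.XH hx) y hy.1, h.XN x hx y hy.2⟩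
    · intro hU
      apply hvU
      refine hU (mem_inf.2 ⟨?_, mul_mem (h1 v hv) (inv_mem hv)⟩)
      have e : w * v * w⁻¹ * v⁻¹ = w * (v * w⁻¹ * v⁻¹) := by group
      rw [e]
      exact mul_mem hw (h.Wn v (h.NH hv) _ (inv_mem hw))
  exact inf_eq_right.1 heq

/-- (i) `C_W(R)` centralises `N` -/
theorem cen [Finite G] (h : EndD H W X X' N N' U U') {w : G} (hw : w ∈ W) (hR : ∀ r ∈ ⁅N, N'⁆, w * r = r * w) :
    ∀ v ∈ N, w * v = v * w := by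
  by_contra hne
  have hNW := h.half hw hR hne
  have h1 : ¬ ∀ n ∈ N, ∀ n' ∈ N', n * n' = n' * n := by
    intro hc
    apply h.nU
    rw [commutator_eq_bot_iff_le_centralizer.2]
    · exact bot_le
    · intro n hn
      rw [mem_centralizer_iff]
      intro n' hn'
      exact (hc n hn n' hn').symm
  push Not at h1
  obtain ⟨n, hn, n', hn', hnn⟩ := h1
  have hN'W : N' ≤ W := by
    refine h.symm.half (w := n) (hNW hn) ?_ ?_
    · intro r hr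
      rw [commutator_comm] at hr
      exact h.ab n hn r (h.cN hr)
    · intro hc
      exact hnn (hc n' hn')
  refine h.nk (K := W ⊓ normalizer (N : Set G)) (h.W2.to_le inf_le_left) (le_inf hN'W ?_) ?_ ?_
  · intro y hy
    rw [mem_normalizer_iff]
    intro v
    refine ⟨fun hv => h.nn hy hv, fun hv => ?_⟩
    have h1 := h.nn (inv_mem hy) hv
    have e : y⁻¹ * (y * v * y⁻¹) * y⁻¹⁻¹ = v := by group
    rwa [e] at h1
  · intro y hy v hv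
    exact (mem_normalizer_iff.1 hy.2 v).1 hv
  · intro x hx y hy
    refine ⟨h.Wn x (h.XH hx) y hy.1, ?_⟩
    have hx' : x ∈ normalizer (N : Set G) := by
      rw [mem_normalizer_iff]
      intro v
      refine ⟨fun hv => h.XN x hx v hv, fun hv => ?_⟩
      have h1 := h.XN _ (inv_mem hx) _ hv
      have e : x⁻¹ * (x * v * x⁻¹) * x⁻¹⁻¹ = v := by group
      rwa [e] at h1
    show x * y * x⁻¹ ∈ normalizer (N : Set G)
    exact mul_mem (mul_mem hx' hy.2) (inv_mem hx')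

theorem cen' [Finite G] (h : EndD H W X X' N N' U U') {w : G} (hw : w ∈ W) (hR : ∀ r ∈ ⁅N, N'⁆, w * r = r * w) :
    ∀ v ∈ N', w * v = v * w :=
  h.symm.cen hw (by rw [commutator_comm]; exact hR)

/-- `W₁ = C_W(N)` -/
theorem mem_W1' [Finite G] (h : EndD H W X X' N N' U U') {w : G} (hw : w ∈ W) (hc : ∀ v ∈ N, w * v = v * w) :
    ∀ v ∈ N', w * v = v * w :=
  h.cen' hw fun r hr => hc r (h.cN hr)

theorem mem_W1 [Finite G] (h : EndD H W X X' N N' U U') {w : G} (hw : w ∈ W) (hc : ∀ v ∈ N', w * v = v * w) :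
    ∀ v ∈ N, w * v = v * w :=
  h.cen hw fun r hr => hc r (h.cN' hr)

/-- (ii) `C_W(C_W(N)) ≤ C_W(N)` -/
theorem self_cen [Finite G] (h : EndD H W X X' N N' U U') {w : G} (hw : w ∈ W)
    (hc : ∀ y ∈ W, (∀ v ∈ N, y * v = v * y) → w * y = y * w) : ∀ v ∈ N, w * v = v * w := by
  by_contra hne
  -- `W₁ = C_W(N)`, `W₅ = C_W(W₁)`, `Z₁ = W₁ ∩ W₅`
  set W1 : Subgroup G := W ⊓ centralizer (N : Set G) with hW1
  set W5 : Subgroup G := W ⊓ centralizer (W1 : Set G) with hW5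
  have m1 : ∀ {y : G}, y ∈ W1 ↔ y ∈ W ∧ ∀ v ∈ N, y * v = v * y := by
    intro y
    rw [hW1, mem_inf, mem_centralizer_iff]
    exact ⟨fun h1 => ⟨h1.1, fun v hv => (h1.2 v hv).symm⟩, fun h1 => ⟨h1.1, fun v hv => (h1.2 v hv).symm⟩⟩
  have m5 : ∀ {y : G}, y ∈ W5 ↔ y ∈ W ∧ ∀ v ∈ W1, y * v = v * y := by
    intro y
    rw [hW5, mem_inf, mem_centralizer_iff]
    exact ⟨fun h1 => ⟨h1.1, fun v hv => (h1.2 v hv).symm⟩, fun h1 => ⟨h1.1, fun v hv => (h1.2 v hv).symm⟩⟩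
  have hw5 : w ∈ W5 := m5.2 ⟨hw, fun y hy => hc y (m1.1 hy).1 (m1.1 hy).2⟩
  have hw1 : w ∉ W1 := fun h1 => hne (m1.1 h1).2
  -- `n` normalises `W₅` for `n` in the centralizer of `W₁`
  have nW5 : ∀ n ∈ H, (∀ y ∈ W1, n * y = y * n) → ∀ b ∈ W5, n * b * n⁻¹ ∈ W5 := by
    intro n hn hcn b hb
    refine m5.2 ⟨h.Wn n hn b (m5.1 hb).1, fun y hy => ?_⟩
    have h1 := (m5.1 hb).2 y hy
    have h2 := hcn y hy
    have h3 : n⁻¹ * y = y * n⁻¹ := by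
      calc n⁻¹ * y = n⁻¹ * (y * n) * n⁻¹ := by group
        _ = n⁻¹ * (n * y) * n⁻¹ := by rw [h2]
        _ = y * n⁻¹ := by group
    calc n * b * n⁻¹ * y = n * b * (n⁻¹ * y) := by group
      _ = n * (b * y) * n⁻¹ := by rw [h3]; group
      _ = n * y * b * n⁻¹ := by rw [h1]; group
      _ = y * (n * b * n⁻¹) := by rw [h2]; group
  have cN1 : ∀ n ∈ N, ∀ y ∈ W1, n * y = y * n := fun n hn y hy => ((m1.1 hy).2 n hn).symm
  have cN1' : ∀ n ∈ N', ∀ y ∈ W1, n * y = y * n :=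
    fun n hn y hy => (h.mem_W1' (m1.1 hy).1 (m1.1 hy).2 n hn).symm
  have hnN : N ≤ normalizer (W5 : Set G) := by
    intro n hn
    rw [mem_normalizer_iff]
    intro b
    refine ⟨fun hb => nW5 n (h.NH hn) (cN1 n hn) b hb, fun hb => ?_⟩
    have h1 := nW5 n⁻¹ (inv_mem (h.NH hn)) (cN1 n⁻¹ (inv_mem hn)) _ hb
    have e : n⁻¹ * (n * b * n⁻¹) * n⁻¹⁻¹ = b := by group
    rwa [e] at h1
  have h2 : IsPGroup 2 ↥(N ⊔ W5) := by
    have : Fact (Nat.Prime 2) := ⟨Nat.prime_two⟩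
    exact h.N2.to_sup_of_normal_right' (h.W2.to_le inf_le_left) hnN
  obtain ⟨y, hy, hyA, hyN⟩ := exists_fix (N := N) (A := W1) (B := W5) h2
    (fun n hn b hb => nW5 n (h.NH hn) (cN1 n hn) b hb) (fun hle => hw1 (hle hw5))
  apply hyA
  -- `y` centralises `R`
  refine m1.2 ⟨(m5.1 hy).1, h.cen (m5.1 hy).1 ?_⟩
  -- `[y, n] ∈ Z₁`
  have hz : ∀ n ∈ N, y * n * y⁻¹ * n⁻¹ ∈ W5 ∧ y * n * y⁻¹ * n⁻¹ ∈ W1 := by
    intro n hn
    refine ⟨?_, hyN n hn⟩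
    have e : y * n * y⁻¹ * n⁻¹ = y * (n * y⁻¹ * n⁻¹) := by group
    rw [e]
    show y * (n * y⁻¹ * n⁻¹) ∈ W5
    exact mul_mem hy (nW5 n (h.NH hn) (cN1 n hn) _ (inv_mem hy))
  have hW5c : ∀ a ∈ W5, ∀ b ∈ W1, a * b = b * a := fun a ha b hb => (m5.1 ha).2 b hb
  -- conjugation by `n'` fixes `y` modulo `W₁`
  have key : ∀ n' ∈ N', ∀ n ∈ N, (n' * y * n'⁻¹) * n * (n' * y * n'⁻¹)⁻¹ * n⁻¹ ∈ W1 := by
    intro n' hn' n hn
    have h3 := h.nn (inv_mem hn') hn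
    rw [inv_inv] at h3
    have h4 := hyN _ h3
    have h5 : n' * (y * (n'⁻¹ * n * n') * y⁻¹ * (n'⁻¹ * n * n')⁻¹) * n'⁻¹ ∈ W1 := by
      rw [cN1' n' hn' _ h4, mul_inv_cancel_right]
      exact h4
    have e : n' * (y * (n'⁻¹ * n * n') * y⁻¹ * (n'⁻¹ * n * n')⁻¹) * n'⁻¹ =
      (n' * y * n'⁻¹) * n * (n' * y * n'⁻¹)⁻¹ * n⁻¹ := by group
    rwa [e] at h5
  -- for `r ∈ R`: `[y ^ n', r] = [y, r]`
  have step : ∀ n' ∈ N', (n' * y * n'⁻¹) * y⁻¹ ∈ W1 := by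
    intro n' hn'
    have hy' : n' * y * n'⁻¹ ∈ W5 := nW5 n' (h.N'H hn') (cN1' n' hn') y hy
    refine m1.2 ⟨mul_mem (m5.1 hy').1 (inv_mem (m5.1 hy).1), ?_⟩
    refine h.cen (mul_mem (m5.1 hy').1 (inv_mem (m5.1 hy).1)) ?_
    intro r hr
    have hrN := h.cN hr
    have hrN' := h.cN' hr
    have hnr : n' * r = r * n' := h.ab' n' hn' r hrN'
    have hnr' : n'⁻¹ * r = r * n'⁻¹ := h.ab' n'⁻¹ (inv_mem hn') r hrN'
    -- `n' [y, r] n'⁻¹ = [y, r]`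
    have h4 := (hz r hrN).2
    have h5 := cN1' n' hn' _ h4
    have h6 : (n' * y * n'⁻¹) * r * (n' * y * n'⁻¹)⁻¹ * r⁻¹ = y * r * y⁻¹ * r⁻¹ := by
      have h7 : (n' * y * n'⁻¹) * r * (n' * y * n'⁻¹)⁻¹ * r⁻¹ = n' * (y * r * y⁻¹ * r⁻¹) * n'⁻¹ := by
        calc (n' * y * n'⁻¹) * r * (n' * y * n'⁻¹)⁻¹ * r⁻¹ = n' * y * (n'⁻¹ * r) * n' * y⁻¹ * n'⁻¹ * r⁻¹ := by group
          _ = n' * y * r * y⁻¹ * (n'⁻¹ * r⁻¹) := by rw [hnr']; group
          _ = n' * (y * r * y⁻¹ * r⁻¹) * n'⁻¹ := by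
            have h8 : n'⁻¹ * r⁻¹ = r⁻¹ * n'⁻¹ := by
              calc n'⁻¹ * r⁻¹ = (r * n')⁻¹ := by group
                _ = (n' * r)⁻¹ := by rw [hnr]
                _ = _ := by group
            rw [h8]; group
      rw [h7, h5, mul_inv_cancel_right]
    have h9 : (n' * y * n'⁻¹) * r * (n' * y * n'⁻¹)⁻¹ = y * r * y⁻¹ := mul_right_cancel h6
    -- `y ^ n' * y⁻¹` conjugates `r` to itself, modulo the commutation of `W₅` with `[y, r]`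
    have h10 : (n' * y * n'⁻¹)⁻¹ * (y * r * y⁻¹) * (n' * y * n'⁻¹) = r := by
      rw [← h9]; group
    -- `y⁻¹ r y`
    have h11 : y⁻¹ * r * y = r * (y * r * y⁻¹ * r⁻¹)⁻¹ := by
      have c1 := hW5c y⁻¹ (inv_mem hy) _ h4
      -- `r = y⁻¹ [y,r] r y = [y, r] y⁻¹ r y`
      have c2 : r = (y * r * y⁻¹ * r⁻¹) * (y⁻¹ * r * y) := by
        calc r = y⁻¹ * (y * r * y⁻¹ * r⁻¹) * r * y := by group
          _ = (y * r * y⁻¹ * r⁻¹) * y⁻¹ * r * y := by rw [c1]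
          _ = _ := by group
      have c3 : y⁻¹ * r * y = (y * r * y⁻¹ * r⁻¹)⁻¹ * r := eq_inv_mul_iff_mul_eq.2 c2.symm
      rw [c3]
      have c4 := (m1.1 h4).2 r hrN
      have c5 : (y * r * y⁻¹ * r⁻¹)⁻¹ * r = r * (y * r * y⁻¹ * r⁻¹)⁻¹ := by
        calc (y * r * y⁻¹ * r⁻¹)⁻¹ * r = (y * r * y⁻¹ * r⁻¹)⁻¹ * (r * (y * r * y⁻¹ * r⁻¹)) *
              (y * r * y⁻¹ * r⁻¹)⁻¹ := by group
          _ = (y * r * y⁻¹ * r⁻¹)⁻¹ * ((y * r * y⁻¹ * r⁻¹) * r) * (y * r * y⁻¹ * r⁻¹)⁻¹ := by rw [c4]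
          _ = _ := by group
      exact c5
    have c6 := hW5c _ hy' _ (inv_mem h4)
    -- `y' (y⁻¹ r y) y'⁻¹ = y' r y'⁻¹ [y,r]⁻¹ = y r y⁻¹ [y,r]⁻¹ = r`
    have h12 : (n' * y * n'⁻¹) * (y⁻¹ * r * y) * (n' * y * n'⁻¹)⁻¹ = r := by
      rw [h11]
      calc (n' * y * n'⁻¹) * (r * (y * r * y⁻¹ * r⁻¹)⁻¹) * (n' * y * n'⁻¹)⁻¹
          = ((n' * y * n'⁻¹) * r * (n' * y * n'⁻¹)⁻¹) * ((n' * y * n'⁻¹) * (y * r * y⁻¹ * r⁻¹)⁻¹) *
              (n' * y * n'⁻¹)⁻¹ := by group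
        _ = (y * r * y⁻¹) * ((y * r * y⁻¹ * r⁻¹)⁻¹ * (n' * y * n'⁻¹)) * (n' * y * n'⁻¹)⁻¹ := by rw [h9, c6]
        _ = (y * r * y⁻¹) * (y * r * y⁻¹ * r⁻¹)⁻¹ := by group
        _ = (y * r * y⁻¹ * r⁻¹) * r * (y * r * y⁻¹ * r⁻¹)⁻¹ := by group
        _ = r * (y * r * y⁻¹ * r⁻¹) * (y * r * y⁻¹ * r⁻¹)⁻¹ := by rw [(m1.1 h4).2 r hrN]
        _ = r := by group
    calc n' * y * n'⁻¹ * y⁻¹ * r = ((n' * y * n'⁻¹) * (y⁻¹ * r * y) * (n' * y * n'⁻¹)⁻¹) * (n' * y * n'⁻¹) * y⁻¹ := by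
          group
      _ = r * (n' * y * n'⁻¹ * y⁻¹) := by rw [h12]; group
  -- `y` centralises `[n, n']`
  have final : ∀ n ∈ N, ∀ n' ∈ N', y * (n * n' * n⁻¹ * n'⁻¹) = (n * n' * n⁻¹ * n'⁻¹) * y := by
    have fin0 : ∀ n ∈ N, ∀ n' ∈ N', y * (n⁻¹ * (n' * n * n'⁻¹)) = (n⁻¹ * (n' * n * n'⁻¹)) * y := by
      intro n hn n' hn'
      have hm := h.nn hn' hn
      set m : G := n' * n * n'⁻¹ with hmdef
      have hzz := step n' hn'
      have hz5 : (n' * y * n'⁻¹) * y⁻¹ ∈ W5 := mul_mem (nW5 n' (h.N'H hn') (cN1' n' hn') y hy) (inv_mem hy)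
      set z : G := (n' * y * n'⁻¹) * y⁻¹ with hzdef
      have e1 : n' * y * n'⁻¹ = z * y := by rw [hzdef]; group
      have h3 : n' * (y * n * y⁻¹ * n⁻¹) * n'⁻¹ = y * n * y⁻¹ * n⁻¹ := by
        rw [cN1' n' hn' _ (hz n hn).2, mul_inv_cancel_right]
      have h4 : n' * (y * n * y⁻¹ * n⁻¹) * n'⁻¹ = (n' * y * n'⁻¹) * m * (n' * y * n'⁻¹)⁻¹ * m⁻¹ := by
        rw [hmdef]; group
      have h5 : (z * y) * m * (z * y)⁻¹ * m⁻¹ = y * m * y⁻¹ * m⁻¹ := by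
        have c1 : z * m = m * z := (m1.1 hzz).2 m hm
        have c2 := hW5c z hz5 _ (hz m hm).2
        calc (z * y) * m * (z * y)⁻¹ * m⁻¹ = z * (y * m * y⁻¹ * m⁻¹) * m * (m * z)⁻¹ := by group
          _ = z * (y * m * y⁻¹ * m⁻¹) * m * (z * m)⁻¹ := by rw [c1]
          _ = (y * m * y⁻¹ * m⁻¹) * z * m * (z * m)⁻¹ := by rw [c2]
          _ = _ := by group
      have h6 : y * m * y⁻¹ * m⁻¹ = y * n * y⁻¹ * n⁻¹ := by rw [← h5, ← e1, ← h4, h3]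
      have h7 : y * m * y⁻¹ = (y * n * y⁻¹ * n⁻¹) * m := by rw [← h6]; group
      calc y * (n⁻¹ * m) = (y * n * y⁻¹)⁻¹ * (y * m * y⁻¹) * y := by group
        _ = (y * n * y⁻¹)⁻¹ * ((y * n * y⁻¹ * n⁻¹) * m) * y := by rw [h7]
        _ = n⁻¹ * m * y := by group
    intro n hn n' hn'
    have h3 := fin0 n⁻¹ (inv_mem hn) n' hn'
    have e : n⁻¹⁻¹ * (n' * n⁻¹ * n'⁻¹) = n * n' * n⁻¹ * n'⁻¹ := by group
    rwa [e] at h3
  intro r hr
  refine (closure_induction (p := fun r _ => y * r = r * y) ?_ ?_ ?_ ?_ hr)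
  · rintro _ ⟨n, hn, n', hn', rfl⟩
    exact final n hn n' hn'
  · rw [mul_one, one_mul]
  · intro a b _ _ ha hb
    rw [← mul_assoc, ha, mul_assoc, hb, mul_assoc]
  · intro a _ ha
    calc y * a⁻¹ = a⁻¹ * (a * y) * a⁻¹ := by group
      _ = a⁻¹ * (y * a) * a⁻¹ := by rw [ha]
      _ = a⁻¹ * y := by group

/-- (iii) elements of odd order of `C_H(C_W(N))` are trivial -/
theorem odd_one [Finite G] (h : EndD H W X X' N N' U U') {y : G} (hy : y ∈ H)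
    (hc : ∀ w ∈ W, (∀ v ∈ N, w * v = v * w) → y * w = w * y) (ho : Odd (orderOf y)) : y = 1 := by
  have : Fact (Nat.Prime 2) := ⟨Nat.prime_two⟩
  have hnW : ∀ x ∈ H, x ∈ normalizer (W : Set G) := by
    intro x hx
    rw [mem_normalizer_iff]
    intro v
    refine ⟨fun hv => h.Wn x hx v hv, fun hv => ?_⟩
    have h1 := h.Wn _ (inv_mem hx) _ hv
    have e : x⁻¹ * (x * v * x⁻¹) * x⁻¹⁻¹ = v := by group
    rwa [e] at h1
  set W1 : Subgroup G := W ⊓ centralizer (N : Set G) with hW1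
  have hz : ∀ x ∈ zpowers y, ∀ g, g * y = y * g → g * x = x * g := by
    rintro _ ⟨n, rfl⟩ g hg
    exact (Commute.zpow_right (show Commute g y from hg) n).eq
  have h1 := Lib.ThompsonPQ.thompson_p_times_q 2 W1 (zpowers y) W (h.W2.to_le inf_le_left)
    (by rw [Nat.card_zpowers]; exact Nat.coprime_two_right.2 ho) h.W2 (by
      intro a ha
      rw [mem_centralizer_iff]
      intro x hx
      refine (hz x hx a ?_).symm
      exact (hc a ha.1 fun v hv => (mem_centralizer_iff.1 ha.2 v hv).symm).symm)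
    (inf_le_left.trans le_normalizer) ((zpowers_le.2 (hnW y hy))) (by
      rintro p ⟨hp, hpA⟩
      rw [mem_centralizer_iff]
      intro x hx
      refine (hz x hx p ?_).symm
      refine (hc p hp ?_).symm
      refine h.self_cen hp fun y' hy' hyc => ?_
      exact (mem_centralizer_iff.1 hpA y' ⟨hy', mem_centralizer_iff.2 fun v hv => (hyc v hv).symm⟩).symm)
  have h2 : y ∈ W := h.char ⟨hy, h1 (mem_zpowers y)⟩
  obtain ⟨k, hk⟩ := h.W2 ⟨y, h2⟩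
  have h3 : y ^ 2 ^ k = 1 := congrArg Subtype.val hk
  have h4 : orderOf y ∣ 2 ^ k := orderOf_dvd_of_pow_eq_one h3
  have h5 : Nat.Coprime (orderOf y) (2 ^ k) := Nat.Coprime.pow_right _ (Nat.coprime_two_right.2 ho)
  exact orderOf_eq_one_iff.1 (Nat.eq_one_of_dvd_coprimes h5 dvd_rfl h4)

/-- **LEMMA END.** -/
theorem false [Finite G] (h : EndD H W X X' N N' U U') : False := by
  have inW : ∀ x ∈ X, ∀ w ∈ W, (∀ v ∈ N, w * v = v * w) → x * w * x⁻¹ ∈ W ∧ ∀ v ∈ N, x * w * x⁻¹ * v = v * (x * w * x⁻¹) := by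
    intro x hx w hw hc
    refine ⟨h.Wn x (h.XH hx) w hw, fun v hv => ?_⟩
    have h1 := h.XN x⁻¹ (inv_mem hx) v hv
    rw [inv_inv] at h1
    have h2 := hc _ h1
    calc x * w * x⁻¹ * v = x * (w * (x⁻¹ * v * x)) * x⁻¹ := by group
      _ = x * ((x⁻¹ * v * x) * w) * x⁻¹ := by rw [h2]
      _ = _ := by group
  -- `Y = C_H(W₁) ∩ N(N)`
  let Y : Subgroup G :=
    { carrier := {y | y ∈ H ∧ (∀ w ∈ W, (∀ v ∈ N, w * v = v * w) → y * w = w * y) ∧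
        (∀ v ∈ N, y * v * y⁻¹ ∈ N) ∧ ∀ v ∈ N, y⁻¹ * v * y ∈ N}
      one_mem' := ⟨one_mem _, fun w _ _ => by rw [one_mul, mul_one], fun v hv => by simpa using hv,
        fun v hv => by simpa using hv⟩
      mul_mem' := by
        rintro a b ⟨ha, ha1, ha2, ha3⟩ ⟨hb, hb1, hb2, hb3⟩
        refine ⟨mul_mem ha hb, fun w hw hc => ?_, fun v hv => ?_, fun v hv => ?_⟩
        · rw [mul_assoc, hb1 w hw hc, ← mul_assoc, ha1 w hw hc, mul_assoc]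
        · have h1 := ha2 _ (hb2 v hv)
          have e : a * (b * v * b⁻¹) * a⁻¹ = a * b * v * (a * b)⁻¹ := by group
          rwa [e] at h1
        · have h1 := hb3 _ (ha3 v hv)
          have e : b⁻¹ * (a⁻¹ * v * a) * b = (a * b)⁻¹ * v * (a * b) := by group
          rwa [e] at h1
      inv_mem' := by
        rintro a ⟨ha, ha1, ha2, ha3⟩
        refine ⟨inv_mem ha, fun w hw hc => ?_, fun v hv => ?_, fun v hv => ?_⟩
        · have h1 := ha1 w hw hc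
          calc a⁻¹ * w = a⁻¹ * (w * a) * a⁻¹ := by group
            _ = a⁻¹ * (a * w) * a⁻¹ := by rw [h1]
            _ = _ := by group
        · have h1 := ha3 v hv
          rwa [inv_inv]
        · have h1 := ha2 v hv
          rwa [inv_inv] }
  have hY : ∀ {y}, y ∈ Y ↔ y ∈ H ∧ (∀ w ∈ W, (∀ v ∈ N, w * v = v * w) → y * w = w * y) ∧
        (∀ v ∈ N, y * v * y⁻¹ ∈ N) ∧ ∀ v ∈ N, y⁻¹ * v * y ∈ N := Iff.rfl
  have hY2 : IsPGroup 2 Y := by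
    rintro ⟨x, hx⟩
    obtain ⟨k, m, hm, hk⟩ := Nat.exists_eq_two_pow_mul_odd (orderOf_pos x).ne'
    refine ⟨k, Subtype.ext ?_⟩
    change x ^ 2 ^ k = 1
    have hxk := pow_mem hx (2 ^ k)
    refine h.odd_one (hY.1 hxk).1 (hY.1 hxk).2.1 ?_
    have h1 : orderOf (x ^ 2 ^ k) ∣ m := by
      apply orderOf_dvd_of_pow_eq_one
      rw [← pow_mul, ← hk, pow_orderOf_eq_one]
    exact hm.of_dvd_nat h1
  refine h.nk hY2 ?_ ?_ ?_
  · intro n' hn'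
    refine hY.2 ⟨h.N'H hn', fun w hw hc => (h.mem_W1' hw hc n' hn').symm, fun v hv => h.nn hn' hv, fun v hv => ?_⟩
    have h1 := h.nn (inv_mem hn') hv
    rwa [inv_inv] at h1
  · intro y hy v hv
    exact (hY.1 hy).2.2.1 v hv
  · intro x hx y hy
    obtain ⟨h1, h2, h3, h4⟩ := hY.1 hy
    refine hY.2 ⟨mul_mem (mul_mem (h.XH hx) h1) (inv_mem (h.XH hx)), fun w hw hc => ?_, fun v hv => ?_, fun v hv => ?_⟩
    · have h5 := inW x⁻¹ (inv_mem hx) w hw hc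
      rw [inv_inv] at h5
      have h6 := h2 _ h5.1 h5.2
      calc x * y * x⁻¹ * w = x * (y * (x⁻¹ * w * x)) * x⁻¹ := by group
        _ = x * ((x⁻¹ * w * x) * y) * x⁻¹ := by rw [h6]
        _ = _ := by group
    · have h5 := h.XN x⁻¹ (inv_mem hx) v hv
      rw [inv_inv] at h5
      have h6 := h.XN x hx _ (h3 _ h5)
      have e : x * (y * (x⁻¹ * v * x) * y⁻¹) * x⁻¹ = x * y * x⁻¹ * v * (x * y * x⁻¹)⁻¹ := by group
      rwa [e] at h6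
    · have h5 := h.XN x⁻¹ (inv_mem hx) v hv
      rw [inv_inv] at h5
      have h6 := h.XN x hx _ (h4 _ h5)
      have e : x * (y⁻¹ * (x⁻¹ * v * x) * y) * x⁻¹ = (x * y * x⁻¹)⁻¹ * v * (x * y * x⁻¹) := by group
      rwa [e] at h6

end EndD

end Cfsg.Agent.Omega.IId.NsK
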