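import Cfsg.Agent.Omega.IId.NsK.EndK
import Cfsg.Agent.MinSimple.VModule
import Cfsg.Agent.MinSimple.Basic
import Cfsg.Agent.Omega.BTwo.Conj

/-!
# II.d, nonsplit, all `k`: the end of the proof

`Pr N N' U U'` : abelian (exponent 2) groups `N, N'` with `R = [N, N'] ≤ N ∩ N'`, `R ≰ U, U'`, the irreducibility of `N / U`
for `N_G(N)` and of `N' / U'` for `N_G(N')`, rigidity of `N'` on `N / U`;
`Pr.false_of_nine` : if moreover `C_G(R) = N N' C_G(N N')` (= (9), #20814) and `C_G(N)` has a nonabelian 2-subgroup, then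
`G` is not of characteristic 2 type.
-/

set_option autoImplicit false
set_option linter.unusedSectionVars false
set_option linter.unusedVariables false

namespace Cfsg.Agent.Omega.IId.NsK

open Subgroup Cfsg Cfsg.Agent.ZN
open Cfsg.Agent.MinSimple.VModule (le_normalizer_o2 o2_isPGroup)
open Cfsg.Agent.Omega.BTwo (mem_normalizer_of_conj conj_mem_of_normalizer)

universe u

variable {G : Type u} [Group G]

/-- Sylow's theorem for a maximal 2-subgroup `S` of `C`. -/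
theorem conj_max [Finite G] {C S T : Subgroup G} (hS : IsPGroup 2 S) (hSC : S ≤ C)
    (hmax : ∀ Y ≤ C, IsPGroup 2 Y → S ≤ Y → Y ≤ S) (hT : IsPGroup 2 T) (hTC : T ≤ C) :
    ∃ c ∈ C, ∀ x ∈ T, c * x * c⁻¹ ∈ S := by
  have : Fact (Nat.Prime 2) := ⟨Nat.prime_two⟩
  obtain ⟨S1, hS1⟩ := (hS.comap_subtype (K := C)).exists_le_sylow
  obtain ⟨T1, hT1⟩ := (hT.comap_subtype (K := C)).exists_le_sylow
  obtain ⟨c, hc⟩ := MulAction.exists_smul_eq C T1 S1
  refine ⟨c, c.2, fun x hx => ?_⟩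
  have h1 : (⟨x, hTC hx⟩ : C) ∈ (T1 : Subgroup C) := hT1 (mem_comap.2 hx)
  have h2 : c * ⟨x, hTC hx⟩ * c⁻¹ ∈ ((c • T1 : Sylow 2 C) : Subgroup C) := by
    rw [Sylow.coe_subgroup_smul]
    exact Subgroup.smul_mem_pointwise_smul _ (MulAut.conj c) _ h1
  rw [hc] at h2
  have h3 : (S1 : Subgroup C).map C.subtype ≤ S := by
    refine hmax _ (map_subtype_le _) (S1.2.map _) ?_
    intro y hy
    exact ⟨⟨y, hSC hy⟩, hS1 (mem_comap.2 hy), rfl⟩
  exact h3 ⟨_, h2, rfl⟩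

/-- The configuration `(N, N')`. -/
structure Pr (N N' U U' : Subgroup G) : Prop where
  sq : ∀ a ∈ N, a * a = 1
  sq' : ∀ a ∈ N', a * a = 1
  ab : ∀ a ∈ N, ∀ b ∈ N, a * b = b * a
  ab' : ∀ a ∈ N', ∀ b ∈ N', a * b = b * a
  cm : ∀ n ∈ N, ∀ n' ∈ N', n * n' * n⁻¹ * n'⁻¹ ∈ N
  cm' : ∀ n ∈ N, ∀ n' ∈ N', n * n' * n⁻¹ * n'⁻¹ ∈ N'
  nU : ¬ ⁅N, N'⁆ ≤ U
  nU' : ¬ ⁅N, N'⁆ ≤ U'
  irr : ∀ M ≤ N, (∀ x ∈ normalizer (N : Set G), ∀ v ∈ M, x * v * x⁻¹ ∈ M) → ¬ M ≤ U → M = N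
  irr' : ∀ M ≤ N', (∀ x ∈ normalizer (N' : Set G), ∀ v ∈ M, x * v * x⁻¹ ∈ M) → ¬ M ≤ U' → M = N'
  rg : ∀ a ∈ N', (∀ v ∈ N, a * v * a⁻¹ * v⁻¹ ∈ U) → ∀ v ∈ N, a * v = v * a
  rg' : ∀ a ∈ N, (∀ v ∈ N', a * v * a⁻¹ * v⁻¹ ∈ U') → ∀ v ∈ N', a * v = v * a
  ce : ∀ a ∈ N', (∀ v ∈ N, a * v = v * a) → a ∈ N
  ce' : ∀ a ∈ N, (∀ v ∈ N', a * v = v * a) → a ∈ N'

namespace Pr

variable {N N' U U' : Subgroup G}

theorem symm (h : Pr N N' U U') : Pr N' N U' U where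
  sq := h.sq'
  sq' := h.sq
  ab := h.ab'
  ab' := h.ab
  cm n hn n' hn' := by
    have := inv_mem (h.cm' n' hn' n hn)
    have e : (n' * n * n'⁻¹ * n⁻¹)⁻¹ = n * n' * n⁻¹ * n'⁻¹ := by group
    rwa [e] at this
  cm' n hn n' hn' := by
    have := inv_mem (h.cm n' hn' n hn)
    have e : (n' * n * n'⁻¹ * n⁻¹)⁻¹ = n * n' * n⁻¹ * n'⁻¹ := by group
    rwa [e] at this
  nU := by rw [commutator_comm]; exact h.nU'
  nU' := by rw [commutator_comm]; exact h.nU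
  irr := h.irr'
  irr' := h.irr
  rg := h.rg'
  rg' := h.rg
  ce := h.ce'
  ce' := h.ce

theorem cN (h : Pr N N' U U') : ⁅N, N'⁆ ≤ N := by
  rw [commutator_le]
  intro n hn n' hn'
  exact h.cm n hn n' hn'

/-- (9) -/
def Nine (N N' : Subgroup G) : Prop :=
  ∀ c, (∀ r ∈ ⁅N, N'⁆, c * r = r * c) → ∃ n ∈ N, ∃ n' ∈ N', ∃ c₀, c = n * n' * c₀ ∧ (∀ v ∈ N, c₀ * v = v * c₀) ∧
    ∀ v ∈ N', c₀ * v = v * c₀

theorem nine_symm (h : Pr N N' U U') (h9 : Nine N N') : Nine N' N := by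
  intro c hc
  rw [commutator_comm] at hc
  obtain ⟨n, hn, n', hn', c₀, rfl, h1, h2⟩ := h9 c hc
  have h3 := h.cm' n hn n' hn'
  refine ⟨(n * n' * n⁻¹ * n'⁻¹) * n', mul_mem h3 hn', n, hn, c₀, by group, h2, h1⟩

/-- `C_G(N) = N C₀` -/
theorem cent_dec (h : Pr N N' U U') (h9 : Nine N N') {c : G} (hc : ∀ v ∈ N, c * v = v * c) :
    ∃ n ∈ N, ∃ c₀, c = n * c₀ ∧ (∀ v ∈ N, c₀ * v = v * c₀) ∧ ∀ v ∈ N', c₀ * v = v * c₀ := by
  obtain ⟨n, hn, n', hn', c₀, rfl, h1, h2⟩ := h9 c fun r hr => hc r (h.cN hr)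
  refine ⟨n * n', mul_mem hn (h.ce n' hn' fun v hv => ?_), c₀, rfl, h1, h2⟩
  have h3 := hc v hv
  have h4 := h1 v hv
  have h5 := h.ab n hn v hv
  have h6 : n * n' * v * c₀ = v * (n * n') * c₀ := by
    calc n * n' * v * c₀ = n * n' * (v * c₀) := by group
      _ = n * n' * c₀ * v := by rw [← h4]; group
      _ = v * (n * n') * c₀ := by rw [h3]; group
  have h7 := mul_right_cancel h6
  have h8 : n * (n' * v) = n * (v * n') := by
    calc n * (n' * v) = n * n' * v := by group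
      _ = v * n * n' := by rw [h7]; group
      _ = n * (v * n') := by rw [← h5]; group
  exact mul_left_cancel h8

variable [Finite G]

/-- `S₀` maximal among the 2-subgroups of `C₀ = C_G(N N')` -/
structure Mx (N N' S₀ : Subgroup G) : Prop where
  two : IsPGroup 2 S₀
  c : ∀ s ∈ S₀, ∀ v ∈ N, s * v = v * s
  c' : ∀ s ∈ S₀, ∀ v ∈ N', s * v = v * s
  max : ∀ Y : Subgroup G, IsPGroup 2 Y → (∀ s ∈ Y, ∀ v ∈ N, s * v = v * s) → (∀ s ∈ Y, ∀ v ∈ N', s * v = v * s) →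
    S₀ ≤ Y → Y ≤ S₀

omit [Finite G] in
theorem Mx.symm {S₀ : Subgroup G} (m : Mx N N' S₀) : Mx N' N S₀ where
  two := m.two
  c := m.c'
  c' := m.c
  max Y hY h1 h2 := m.max Y hY h2 h1

theorem exists_mx (N N' : Subgroup G) : ∃ S₀ : Subgroup G, Mx N N' S₀ := by
  have : Fact (Nat.Prime 2) := ⟨Nat.prime_two⟩
  set C : Subgroup G := centralizer (N : Set G) ⊓ centralizer (N' : Set G) with hC
  obtain ⟨S1⟩ : Nonempty (Sylow 2 C) := inferInstance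
  have hm : ∀ {x : G}, x ∈ C ↔ (∀ v ∈ N, x * v = v * x) ∧ ∀ v ∈ N', x * v = v * x := by
    intro x
    rw [hC, mem_inf, mem_centralizer_iff, mem_centralizer_iff]
    exact ⟨fun h1 => ⟨fun v hv => (h1.1 v hv).symm, fun v hv => (h1.2 v hv).symm⟩,
      fun h1 => ⟨fun v hv => (h1.1 v hv).symm, fun v hv => (h1.2 v hv).symm⟩⟩
  refine ⟨(S1 : Subgroup C).map C.subtype, S1.2.map _, ?_, ?_, ?_⟩
  · rintro _ ⟨s, hs, rfl⟩
    exact (hm.1 s.2).1
  · rintro _ ⟨s, hs, rfl⟩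
    exact (hm.1 s.2).2
  · intro Y hY h1 h2 hle y hy
    have h3 : (S1 : Subgroup C) ≤ Y.comap C.subtype := fun s hs => hle ⟨s, hs, rfl⟩
    have h4 := S1.3 (hY.comap_subtype (K := C)) h3
    have hyC : y ∈ C := hm.2 ⟨h1 y hy, h2 y hy⟩
    exact ⟨⟨y, hyC⟩, h4 ▸ (show (⟨y, hyC⟩ : C) ∈ Y.comap C.subtype from hy), rfl⟩

/-- `N S₀` -/
def NS {S₀ : Subgroup G} (h : Pr N N' U U') (m : Mx N N' S₀) : Subgroup G where
  carrier := {x | ∃ n ∈ N, ∃ s ∈ S₀, x = n * s}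
  one_mem' := ⟨1, one_mem _, 1, one_mem _, by group⟩
  mul_mem' := by
    rintro _ _ ⟨n, hn, s, hs, rfl⟩ ⟨n₁, hn₁, s₁, hs₁, rfl⟩
    refine ⟨n * n₁, mul_mem hn hn₁, s * s₁, mul_mem hs hs₁, ?_⟩
    have := m.c s hs n₁ hn₁
    calc n * s * (n₁ * s₁) = n * (s * n₁) * s₁ := by group
      _ = _ := by rw [this]; group
  inv_mem' := by
    rintro _ ⟨n, hn, s, hs, rfl⟩
    refine ⟨n⁻¹, inv_mem hn, s⁻¹, inv_mem hs, ?_⟩
    rw [m.c s⁻¹ (inv_mem hs) n⁻¹ (inv_mem hn) |>.symm]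
    group

/-- the squares of `S₀` generate -/
def Kq (S₀ : Subgroup G) : Subgroup G := closure {y | ∃ s ∈ S₀, y = s * s}

omit [Finite G] in
theorem sq_NS (h : Pr N N' U U') {S₀ : Subgroup G} (m : Mx N N' S₀) {n s : G} (hn : n ∈ N) (hs : s ∈ S₀) :
    n * s * (n * s) = s * s := by
  have h1 := m.c s hs n hn
  have h2 := h.sq n hn
  calc n * s * (n * s) = n * (s * n) * s := by group
    _ = (n * n) * (s * s) := by rw [h1]; group
    _ = s * s := by rw [h2, one_mul]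

omit [Finite G] in
theorem NS_two (h : Pr N N' U U') {S₀ : Subgroup G} (m : Mx N N' S₀) : IsPGroup 2 (NS h m) := by
  rintro ⟨x, n, hn, s, hs, rfl⟩
  obtain ⟨k, hk⟩ := m.two ⟨s, hs⟩
  have hk' : s ^ 2 ^ k = 1 := congrArg Subtype.val hk
  refine ⟨k + 1, Subtype.ext ?_⟩
  change (n * s) ^ 2 ^ (k + 1) = 1
  rw [pow_succ', pow_mul, pow_two, sq_NS h m hn hs, ← pow_two, ← pow_mul, mul_comm, pow_mul, hk', one_pow]

/-- a 2-subgroup of `C_G(N)` is conjugate into `N S₀` -/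
theorem conj_into (h : Pr N N' U U') (h9 : Nine N N') {S₀ : Subgroup G} (m : Mx N N' S₀) {T : Subgroup G}
    (hT : IsPGroup 2 T) (hTN : ∀ t ∈ T, ∀ v ∈ N, t * v = v * t) :
    ∃ c, (∀ v ∈ N, c * v = v * c) ∧ ∀ x ∈ T, ∃ n ∈ N, ∃ s ∈ S₀, c * x * c⁻¹ = n * s := by
  have hmc : ∀ {x : G}, x ∈ centralizer (N : Set G) ↔ ∀ v ∈ N, x * v = v * x := by
    intro x
    rw [mem_centralizer_iff]
    exact ⟨fun h1 v hv => (h1 v hv).symm, fun h1 v hv => (h1 v hv).symm⟩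
  obtain ⟨c, hc, h1⟩ := conj_max (C := centralizer (N : Set G)) (S := NS h m) (T := T) (NS_two h m) (by
      rintro _ ⟨n, hn, s, hs, rfl⟩
      exact mul_mem (hmc.2 fun v hv => h.ab n hn v hv) (hmc.2 fun v hv => m.c s hs v hv)) (by
      intro Y hY hY2 hle y hy
      obtain ⟨n, hn, c₀, rfl, h2, h3⟩ := h.cent_dec h9 (hmc.1 (hY hy))
      refine ⟨n, hn, c₀, ?_, rfl⟩
      -- `Y ∩ C₀ ≤ S₀`
      have h4 : (Y ⊓ (centralizer (N : Set G) ⊓ centralizer (N' : Set G))) ≤ S₀ := by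
        refine m.max _ (hY2.to_le inf_le_left) ?_ ?_ ?_
        · intro s hs v hv
          exact (mem_centralizer_iff.1 hs.2.1 v hv).symm
        · intro s hs v hv
          exact (mem_centralizer_iff.1 hs.2.2 v hv).symm
        · intro s hs
          exact ⟨hle ⟨1, one_mem _, s, hs, by group⟩, mem_centralizer_iff.2 fun v hv => (m.c s hs v hv).symm,
            mem_centralizer_iff.2 fun v hv => (m.c' s hs v hv).symm⟩
      refine h4 ⟨?_, mem_centralizer_iff.2 fun v hv => (h2 v hv).symm,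
        mem_centralizer_iff.2 fun v hv => (h3 v hv).symm⟩
      have h5 : n ∈ Y := hle ⟨n, hn, 1, one_mem _, by group⟩
      have e : c₀ = n⁻¹ * (n * c₀) := by group
      show c₀ ∈ Y
      rw [e]
      exact mul_mem (inv_mem h5) hy) hT (fun t ht => hmc.2 (hTN t ht))
  exact ⟨c, hmc.1 hc, fun x hx => h1 x hx⟩

/-- Frattini: `N_G(N) = C_G(N) (N_G(N) ∩ N_G(K))` -/
theorem frat (h : Pr N N' U U') (h9 : Nine N N') {S₀ : Subgroup G} (m : Mx N N' S₀) {g : G}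
    (hg : g ∈ normalizer (N : Set G)) :
    ∃ c, (∀ v ∈ N, c * v = v * c) ∧ c * g ∈ normalizer (Kq S₀ : Set G) := by
  have hT : IsPGroup 2 ((NS h m).map (MulAut.conj g).toMonoidHom) := (NS_two h m).map _
  obtain ⟨c, hc, h1⟩ := h.conj_into h9 m hT (by
    rintro _ ⟨x, ⟨n, hn, s, hs, rfl⟩, rfl⟩ v hv
    change g * (n * s) * g⁻¹ * v = v * (g * (n * s) * g⁻¹)
    have h2 : g⁻¹ * v * g ∈ N := (mem_normalizer_iff''.1 hg v).1 hv
    have h3 := h.ab n hn _ h2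
    have h4 := m.c s hs _ h2
    calc g * (n * s) * g⁻¹ * v = g * (n * (s * (g⁻¹ * v * g))) * g⁻¹ := by group
      _ = g * ((n * (g⁻¹ * v * g)) * s) * g⁻¹ := by rw [h4]; group
      _ = g * (((g⁻¹ * v * g) * n) * s) * g⁻¹ := by rw [h3]
      _ = _ := by group)
  refine ⟨c, hc, mem_normalizer_of_conj fun x hx => ?_⟩
  rw [Kq] at hx
  induction hx using closure_induction with
  | mem x hx =>
    obtain ⟨s, hs, rfl⟩ := hx
    obtain ⟨n, hn, s', hs', h2⟩ := h1 (g * s * g⁻¹) ⟨s, ⟨1, one_mem _, s, hs, by group⟩, rfl⟩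
    have e : c * g * (s * s) * (c * g)⁻¹ = (c * (g * s * g⁻¹) * c⁻¹) * (c * (g * s * g⁻¹) * c⁻¹) := by group
    rw [e, h2, sq_NS h m hn hs']
    exact subset_closure ⟨s', hs', rfl⟩
  | one => rw [mul_one, mul_inv_cancel]; exact one_mem _
  | mul y z _ _ h1 h3 =>
    have e1 : c * g * (y * z) * (c * g)⁻¹ = (c * g * y * (c * g)⁻¹) * (c * g * z * (c * g)⁻¹) := by group
    rw [e1]; exact mul_mem h1 h3
  | inv y _ h1 =>
    have e1 : c * g * y⁻¹ * (c * g)⁻¹ = (c * g * y * (c * g)⁻¹)⁻¹ := by group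
    rw [e1]; exact inv_mem h1

/-- irreducibility for `N_G(N) ∩ N_G(K)` -/
theorem irr_K (h : Pr N N' U U') (h9 : Nine N N') {S₀ : Subgroup G} (m : Mx N N' S₀) (M : Subgroup G) (hM : M ≤ N)
    (hi : ∀ x ∈ normalizer (N : Set G) ⊓ normalizer (Kq S₀ : Set G), ∀ v ∈ M, x * v * x⁻¹ ∈ M) (hU : ¬ M ≤ U) :
    M = N := by
  refine h.irr M hM ?_ hU
  intro g hg v hv
  obtain ⟨c, hc, h1⟩ := h.frat h9 m hg
  have hcN : c ∈ normalizer (N : Set G) := by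
    apply mem_normalizer_of_conj
    intro x hx
    rw [hc x hx, mul_inv_cancel_right]
    exact hx
  have h2 := hi (c * g) ⟨mul_mem hcN hg, h1⟩ v hv
  have h3 := hc _ (conj_mem_of_normalizer hg (hM hv))
  have e : c * g * v * (c * g)⁻¹ = g * v * g⁻¹ := by
    calc c * g * v * (c * g)⁻¹ = c * (g * v * g⁻¹) * c⁻¹ := by group
      _ = g * v * g⁻¹ := by rw [h3, mul_inv_cancel_right]
  rwa [e] at h2

omit [Finite G] in
/-- `w ∈ C_G(R)` acts on `N` as an element of `N'` -/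
theorem star (h : Pr N N' U U') (h9 : Nine N N') {w : G} (hR : ∀ r ∈ ⁅N, N'⁆, w * r = r * w) :
    (∀ v ∈ N, w * v * w⁻¹ ∈ N) ∧ ((∀ v ∈ N, w * v * w⁻¹ * v⁻¹ ∈ U) → ∀ v ∈ N, w * v = v * w) := by
  obtain ⟨n, hn, n', hn', c₀, rfl, h1, h2⟩ := h9 w hR
  have hnn : ∀ v ∈ N, n' * v * n'⁻¹ ∈ N := by
    intro v hv
    have h3 := h.cm v⁻¹ (inv_mem hv) n' hn'
    have e : n' * v * n'⁻¹ = v * (v⁻¹ * n' * v⁻¹⁻¹ * n'⁻¹) := by group
    rw [e]
    exact mul_mem hv h3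
  have key : ∀ v ∈ N, n * n' * c₀ * v * (n * n' * c₀)⁻¹ = n' * v * n'⁻¹ := by
    intro v hv
    have h3 := h1 v hv
    have h4 := h.ab n hn _ (hnn v hv)
    calc n * n' * c₀ * v * (n * n' * c₀)⁻¹ = n * n' * (c₀ * v) * c₀⁻¹ * n'⁻¹ * n⁻¹ := by group
      _ = n * (n' * v * n'⁻¹) * n⁻¹ := by rw [h3]; group
      _ = n' * v * n'⁻¹ := by rw [h4]; group
  refine ⟨fun v hv => ?_, fun hU v hv => ?_⟩
  · rw [key v hv]; exact hnn v hv
  · have h3 := h.rg n' hn' (fun v hv => by rw [← key v hv]; exact hU v hv) v hv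
    have h4 := key v hv
    rw [h3, mul_inv_cancel_right] at h4
    calc n * n' * c₀ * v = (n * n' * c₀ * v * (n * n' * c₀)⁻¹) * (n * n' * c₀) := by group
      _ = v * (n * n' * c₀) := by rw [h4]

/-- **The end**: (9) and a nonabelian 2-subgroup in `C_G(N)` contradict characteristic 2 type. -/
theorem false_of_nine (hG : IsCharacteristicTwoType G) (h : Pr N N' U U') (h9 : Nine N N')
    {Y : Subgroup G} (hY : IsPGroup 2 Y) (hYN : ∀ y ∈ Y, ∀ v ∈ N, y * v = v * y)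
    (hna : ∃ x ∈ Y, ∃ y ∈ Y, x * y ≠ y * x) : False := by
  have : Fact (Nat.Prime 2) := ⟨Nat.prime_two⟩
  obtain ⟨S₀, m⟩ := exists_mx N N'
  have h9' := h.nine_symm h9
  have hS : Kq S₀ ≤ S₀ := by
    rw [Kq, closure_le]
    rintro _ ⟨s, hs, rfl⟩
    exact mul_mem hs hs
  have hK2 : IsPGroup 2 (Kq S₀) := m.two.to_le hS
  have hK1 : Kq S₀ ≠ ⊥ := by
    intro h0
    obtain ⟨c, hc, h1⟩ := h.conj_into h9 m hY hYN
    have hsq : ∀ d ∈ Y, d * d = 1 := by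
      intro d hd
      obtain ⟨n, hn, s, hs, h2⟩ := h1 d hd
      have h3 : s * s = 1 := by
        rw [← mem_bot, ← h0]
        exact subset_closure ⟨s, hs, rfl⟩
      have h4 : c * (d * d) * c⁻¹ = 1 := by
        have e : c * (d * d) * c⁻¹ = (c * d * c⁻¹) * (c * d * c⁻¹) := by group
        rw [e, h2, sq_NS h m hn hs, h3]
      calc d * d = c⁻¹ * (c * (d * d) * c⁻¹) * c := by group
        _ = 1 := by rw [h4]; group
    obtain ⟨x, hx, y, hy, hxy⟩ := hna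
    apply hxy
    have h1 := hsq x hx
    have h3 := hsq y hy
    have h5 := hsq _ (mul_mem hx hy)
    calc x * y = x * (x * y * (x * y)) * y := by rw [h5]; group
      _ = (x * x) * y * x * (y * y) := by group
      _ = y * x := by rw [h1, h3]; group
  set H : Subgroup G := normalizer (Kq S₀ : Set G) with hH
  have hKN : ∀ x ∈ Kq S₀, ∀ v ∈ N, x * v = v * x := fun x hx => m.c x (hS hx)
  have hKN' : ∀ x ∈ Kq S₀, ∀ v ∈ N', x * v = v * x := fun x hx => m.c' x (hS hx)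
  have p2 : ∀ N₀ : Subgroup G, (∀ a ∈ N₀, a * a = 1) → IsPGroup 2 N₀ := by
    rintro N₀ h1 ⟨x, hx⟩
    exact ⟨1, Subtype.ext (by change x ^ 2 ^ 1 = 1; rw [pow_one, pow_two]; exact h1 x hx)⟩
  have inH : ∀ N₀ : Subgroup G, (∀ x ∈ Kq S₀, ∀ v ∈ N₀, x * v = v * x) → N₀ ≤ H := by
    intro N₀ h1 v hv
    apply mem_normalizer_of_conj
    intro x hx
    rw [← h1 x hx v hv, mul_inv_cancel_right]
    exact hx
  have e : EndD H (o2 H) (normalizer (N : Set G) ⊓ H) (normalizer (N' : Set G) ⊓ H) N N' U U' :=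
    { W2 := o2_isPGroup _
      WH := MinSimple.VModule.o2_le _
      Wn := fun x hx w hw => conj_mem_of_normalizer (le_normalizer_o2 H hx) hw
      char := Cfsg.Agent.MinSimple.Basic.char2_normalizer hG hK2 hK1
      NH := inH N hKN
      N'H := inH N' hKN'
      N2 := p2 N h.sq
      N2' := p2 N' h.sq'
      ab := h.ab
      ab' := h.ab'
      cm := h.cm
      cm' := h.cm'
      nU := h.nU
      nU' := h.nU'
      XH := inf_le_right
      X'H := inf_le_right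
      XN := fun x hx v hv => conj_mem_of_normalizer hx.1 hv
      XN' := fun x hx v hv => conj_mem_of_normalizer hx.1 hv
      irr := h.irr_K h9 m
      irr' := h.symm.irr_K h9' m.symm
      star := fun w _ hR => h.star h9 hR
      star' := fun w _ hR => h.symm.star h9' (by rw [commutator_comm]; exact hR) }
  exact e.false

end Pr

end Cfsg.Agent.Omega.IId.NsK
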