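import Mathlib

/-!
# CvNonsplit, `k ≥ 2`, step (9) (bb #20814): the abstract part

`Γ` acts faithfully on the elementary abelian 2-group `Y`; `A = {a t}` acts by
`a t • y = y + e (s y * t ^ 2) + g (s y * t)`.  Conclusion: the centraliser of `e(F)` is `A`
and `Y = e(F) + g(F) + n • e(F)`.
-/

set_option autoImplicit false
set_option linter.unusedSectionVars false

namespace Cfsg.Agent.Omega.IId.NsK.Nine

/-- all inputs (`Γ` = image of `N_M(Y)` on `Y = ⟨N_1 ^ C⟩`) -/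
structure Dat {F : Type*} [Field F] (Γ : Type*) [Group Γ] {Y : Type*} [AddCommGroup Y] [DistribMulAction Γ Y]
    (a : F → Γ) (e g : F → Y) (s : Y → F) (n : Γ) : Prop where
  faith : ∀ γ : Γ, (∀ y : Y, γ • y = y) → γ = 1
  two : ∀ y : Y, y + y = 0
  e_add : ∀ x z, e (x + z) = e x + e z
  g_add : ∀ x z, g (x + z) = g x + g z
  s_add : ∀ y z, s (y + z) = s y + s z
  se : ∀ x, s (e x) = 0
  sg : ∀ x, s (g x) = 0
  ind : ∀ x w, e x = g w → x = 0 ∧ w = 0
  act : ∀ t y, a t • y = y + e (s y * t ^ 2) + g (s y * t)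
  gfix : ∀ (γ : Γ) w, γ • g w = g w
  /-- (7): `s` is invariant under the centraliser `C` of `e(F)` -/
  sC : ∀ γ : Γ, (∀ x, γ • e x = e x) → ∀ y, s (γ • y) = s y
  /-- the torus of `X` -/
  tor : ∀ μ : F, μ ≠ 0 → ∃ h : Γ, (∀ x, h • e x = e (μ * x)) ∧ ∀ t, h * a t * h⁻¹ = a (μ * t)
  /-- `n` maps `e` to `f` -/
  sn : ∀ x, s (n • e x) = x
  /-- (3): `O_2(C) ⊓ ⟨A ^ Γ⟩ ≤ A` -/
  core : ∀ N : Subgroup Γ, IsPGroup 2 N → (∀ x ∈ N, ∀ c : Γ, (∀ z, c • e z = e z) → c * x * c⁻¹ ∈ N) →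
    (∀ x ∈ N, ∀ z, x • e z = e z) →
    N ≤ Subgroup.closure {x | ∃ (m : Γ) (t : F), x = m * a t * m⁻¹} → ∀ x ∈ N, ∃ t, x = a t
  /-- (4): `A ≤ O_2(C(e(z₀)))` for one `z₀` -/
  zero : ∃ z₀ : F, z₀ ≠ 0 ∧ ∃ Q : Subgroup Γ, IsPGroup 2 Q ∧
    (∀ γ : Γ, γ • e z₀ = e z₀ → ∀ x ∈ Q, γ * x * γ⁻¹ ∈ Q) ∧ ∀ t, a t ∈ Q
  /-- `Y = ⟨N_1 ^ C⟩` -/
  gen : ∀ H : AddSubgroup Y, (∀ x, e x ∈ H) → (∀ x, g x ∈ H) →
    (∀ c : Γ, (∀ z, c • e z = e z) → ∀ x, c • n • e x ∈ H) → H = ⊤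

/-- a proper subgroup of a finite 2-group has a proper normaliser -/
theorem grow {Γ : Type*} [Group Γ] [Finite Γ] {A Q : Subgroup Γ} (hQ : IsPGroup 2 Q) (hAQ : A ≤ Q) (hne : ¬ Q ≤ A) :
    ∃ x ∈ Q, x ∉ A ∧ ∀ b ∈ A, x * b * x⁻¹ ∈ A := by
  have : Group.IsNilpotent Q := by
    have : Fact (Nat.Prime 2) := ⟨Nat.prime_two⟩
    exact hQ.isNilpotent
  have h1 : A.subgroupOf Q < ⊤ := by
    rw [lt_top_iff_ne_top]
    intro h
    exact hne (Subgroup.subgroupOf_eq_top.mp h)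
  obtain ⟨x, hx, hx2⟩ := SetLike.exists_of_lt (Group.normalizerCondition_of_isNilpotent (G := Q) _ h1)
  refine ⟨x, x.2, fun h => hx2 (Subgroup.mem_subgroupOf.mpr h), fun b hb => ?_⟩
  have h3 := (Subgroup.mem_normalizer_iff.mp hx ⟨b, hAQ hb⟩).mp (Subgroup.mem_subgroupOf.mpr hb)
  exact Subgroup.mem_subgroupOf.mp h3

/-- the centraliser of `e(F)` -/
def Cen {F Γ Y : Type*} [Group Γ] [AddCommGroup Y] [DistribMulAction Γ Y] (e : F → Y) : Subgroup Γ where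
  carrier := {γ | ∀ x, γ • e x = e x}
  mul_mem' {a b} ha hb x := by rw [mul_smul, hb x, ha x]
  one_mem' x := one_smul _ _
  inv_mem' {a} ha x := by rw [inv_smul_eq_iff, ha x]

namespace Dat

variable {F : Type*} [Field F] [Finite F] [CharP F 2] {Γ : Type*} [Group Γ] [Finite Γ]
  {Y : Type*} [AddCommGroup Y] [DistribMulAction Γ Y]
  {a : F → Γ} {e g : F → Y} {s : Y → F} {n : Γ} (D : Dat Γ a e g s n)
include D

theorem e0 : e 0 = 0 := by simpa using D.e_add 0 0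
theorem g0 : g 0 = 0 := by simpa using D.g_add 0 0
theorem s0 : s 0 = 0 := by simpa using D.s_add 0 0

theorem neg_eq (y : Y) : -y = y := by
  have := D.two y
  exact neg_eq_of_add_eq_zero_left this

theorem eq_of_add {y z : Y} (h : y + z = 0) : y = z := by
  rw [eq_neg_of_add_eq_zero_left h, D.neg_eq]

/-- independence of `e(F)` and `g(F)` -/
theorem ind2 {x x' w w' : F} (h : e x + g w = e x' + g w') : x = x' ∧ w = w' := by
  have h1 : e (x + x') = g (w + w') := by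
    apply D.eq_of_add
    rw [D.e_add, D.g_add]
    have : e x + e x' + (g w + g w') = (e x + g w) + (e x' + g w') := by abel
    rw [this, h, D.two]
  obtain ⟨h2, h3⟩ := D.ind _ _ h1
  exact ⟨CharTwo.add_eq_zero.mp h2, CharTwo.add_eq_zero.mp h3⟩

theorem e_inj {x x' : F} (h : e x = e x') : x = x' := by
  have : e x + g 0 = e x' + g 0 := by rw [h]
  exact (D.ind2 this).1

theorem ext_act {x z : Γ} (h : ∀ y : Y, x • y = z • y) : x = z := by
  have h1 : z⁻¹ * x = 1 := D.faith _ (fun y => by rw [mul_smul, h, inv_smul_smul])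
  exact (inv_mul_eq_one.mp h1).symm

theorem s_act (t : F) (y : Y) : s (a t • y) = s y := by
  rw [D.act, D.s_add, D.s_add, D.se, D.sg, add_zero, add_zero]

theorem a_add (t t' : F) : a (t + t') = a t * a t' := by
  apply D.ext_act
  intro y
  rw [mul_smul, D.act t, D.s_act, D.act t', D.act (t + t')]
  have h1 : s y * (t + t') ^ 2 = s y * t' ^ 2 + s y * t ^ 2 := by
    rw [CharTwo.add_sq]; ring
  have h2 : s y * (t + t') = s y * t' + s y * t := by ring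
  rw [h1, h2, D.e_add, D.g_add]; abel

theorem a0 : a 0 = 1 := by
  have := D.a_add 0 0
  simpa using this

theorem a_sq (t : F) : a t * a t = 1 := by
  rw [← D.a_add, CharTwo.add_self_eq_zero, D.a0]

theorem a_inv (t : F) : (a t)⁻¹ = a t := inv_eq_of_mul_eq_one_left (D.a_sq t)

theorem a_inj {t t' : F} (h : a t = a t') : t = t' := by
  have h1 := D.act t (n • e 1)
  have h2 := D.act t' (n • e 1)
  rw [h, h2, D.sn, add_assoc, add_assoc, add_right_inj, one_mul, one_mul, one_mul, one_mul] at h1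
  exact (D.ind2 h1).2.symm

theorem a_e (t x : F) : a t • e x = e x := by
  rw [D.act, D.se, zero_mul, zero_mul, D.e0, D.g0, add_zero, add_zero]

/-- the subgroup `A` -/
def aS : Subgroup Γ where
  carrier := {x | ∃ t, x = a t}
  mul_mem' := by
    rintro _ _ ⟨t, rfl⟩ ⟨t', rfl⟩
    exact ⟨t + t', (D.a_add t t').symm⟩
  one_mem' := ⟨0, D.a0.symm⟩
  inv_mem' := by
    rintro _ ⟨t, rfl⟩
    exact ⟨t, D.a_inv t⟩

theorem exists_sqrt (x : F) : ∃ t : F, t ^ 2 = x := by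
  obtain ⟨t, ht⟩ := FiniteField.isSquare_of_char_two (ringChar.eq F 2 ▸ rfl) x
  exact ⟨t, by rw [ht, sq]⟩

omit [CharP F 2] D in
theorem exists_par (h4 : 4 ≤ Nat.card F) : ∃ t₀ : F, t₀ ≠ 0 ∧ t₀ ≠ 1 := by
  by_contra hcon
  push Not at hcon
  have h1 : Nat.card F ≤ 2 := by
    have := Fintype.ofFinite F
    classical
    rw [Nat.card_eq_fintype_card]
    have h2 : (Finset.univ : Finset F) ⊆ {0, 1} := by
      intro x _
      by_cases hx : x = 0
      · simp [hx]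
      · simp [hcon x hx]
    calc Fintype.card F = (Finset.univ : Finset F).card := rfl
      _ ≤ ({0, 1} : Finset F).card := Finset.card_le_card h2
      _ ≤ 2 := Finset.card_le_two
  omega

/-- (1): RIGID -/
theorem rigid (h4 : 4 ≤ Nat.card F) {γ : Γ} (hγ : ∀ t, ∃ t', γ * a t * γ⁻¹ = a t') :
    ∃ τ : F, τ ≠ 0 ∧ (∀ x, γ • e x = e (τ * x)) ∧ (∀ t, γ * a t * γ⁻¹ = a (τ * t)) ∧ ∀ y, τ * s (γ • y) = s y := by
  choose T hT using hγ
  have K : ∀ t y, γ • e (s y * t ^ 2) + g (s y * t) = e (s (γ • y) * T t ^ 2) + g (s (γ • y) * T t) := by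
    intro t y
    have h1 : a (T t) • (γ • y) = γ • (a t • y) := by
      rw [← hT t, ← mul_smul, ← mul_smul]
      congr 1
      group
    rw [D.act, D.act, smul_add, smul_add, D.gfix, add_assoc, add_assoc, add_right_inj] at h1
    exact h1.symm
  have K2 : ∀ y, γ • e (s y) + g (s y) = e (s (γ • y) * T 1 ^ 2) + g (s (γ • y) * T 1) := by
    intro y
    have := K 1 y
    rwa [one_pow, mul_one] at this
  have K3 : ∀ y, γ • e (s y) = e (s (γ • y) * T 1 ^ 2) + g (s (γ • y) * T 1 + s y) := by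
    intro y
    rw [D.g_add, ← add_assoc, ← K2, add_assoc, D.two, add_zero]
  have hT1 : T 1 ≠ 0 := by
    intro h0
    have h1 := hT 1
    rw [h0, D.a0] at h1
    have h2 : a 1 = a 0 := by
      rw [D.a0]
      have := mul_inv_eq_one.mp h1
      simpa using this
    exact one_ne_zero (D.a_inj h2)
  set τ := T 1 with hτ
  -- the two equations
  have E : ∀ t x, s (γ • n • e (x * t ^ 2)) * τ ^ 2 = s (γ • n • e x) * T t ^ 2 ∧
      s (γ • n • e (x * t ^ 2)) * τ + x * t ^ 2 + x * t = s (γ • n • e x) * T t := by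
    intro t x
    have h1 := K t (n • e x)
    have h2 := K3 (n • e (x * t ^ 2))
    rw [D.sn] at h1 h2
    rw [h2, add_assoc, ← D.g_add] at h1
    exact D.ind2 h1
  obtain ⟨t₀, ht₀, ht₁⟩ := exists_par h4
  have hc : t₀ ^ 2 + t₀ ≠ 0 := by
    intro h
    have h1 : t₀ * (t₀ + 1) = 0 := by rw [← h]; ring
    rcases mul_eq_zero.mp h1 with h2 | h2
    · exact ht₀ h2
    · exact ht₁ (CharTwo.add_eq_zero.mp h2)
  have h20 : (2 : F) = 0 := CharTwo.two_eq_zero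
  have G1 : ∀ t x, s (γ • n • e x) * (T t ^ 2 + τ * T t) = τ * (x * (t ^ 2 + t)) := by
    intro t x
    obtain ⟨h1, h2⟩ := E t x
    linear_combination -h1 + τ * h2 + (s (γ • n • e x) * τ * T t - τ * x * t ^ 2 - τ * x * t) * h20
  set k := T t₀ ^ 2 + τ * T t₀ with hk
  have hk0 : k ≠ 0 := by
    intro h0
    have h1 := G1 t₀ 1
    rw [← hk, h0, mul_zero, one_mul] at h1
    rcases mul_eq_zero.mp h1.symm with h2 | h2
    · exact hT1 h2
    · exact hc h2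
  obtain ⟨κ, hκ⟩ : ∃ κ, κ = τ * (t₀ ^ 2 + t₀) / k := ⟨_, rfl⟩
  have hq : ∀ x, s (γ • n • e x) = κ * x := by
    intro x
    have h1 := G1 t₀ x
    rw [hκ]
    field_simp
    rw [← hk] at h1
    linear_combination h1
  have hκ0 : κ ≠ 0 := by
    rw [hκ]
    exact div_ne_zero (mul_ne_zero hT1 hc) hk0
  have hTt : ∀ t, T t = τ * t := by
    intro t
    obtain ⟨h1, _⟩ := E t 1
    rw [hq, hq, one_mul] at h1
    have h2 : T t ^ 2 = (τ * t) ^ 2 := by
      have : κ * (T t ^ 2) = κ * ((τ * t) ^ 2) := by linear_combination -h1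
      exact mul_left_cancel₀ hκ0 this
    exact CharTwo.sq_injective h2
  have hκτ : κ * τ = 1 := by
    obtain ⟨_, h2⟩ := E t₀ 1
    rw [hq, hq, hTt] at h2
    have h3 : (κ * τ + 1) * (t₀ ^ 2 + t₀) = 0 := by
      linear_combination h2 + κ * τ * t₀ * h20
    rcases mul_eq_zero.mp h3 with h4 | h4
    · exact CharTwo.add_eq_zero.mp h4
    · exact absurd h4 hc
  refine ⟨τ, hT1, ?_, ?_, ?_⟩
  · intro x
    have h1 := K3 (n • e x)
    rw [D.sn, hq] at h1
    rw [h1]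
    have h2 : κ * x * τ ^ 2 = τ * x := by linear_combination (x * τ) * hκτ
    have h3 : κ * x * τ + x = 0 := by linear_combination x * hκτ + x * h20
    rw [h2, h3, D.g0, add_zero]
  · intro t
    rw [hT, hTt]
  · intro y
    have h1 := K3 y
    have h2 := K3 (n • e (s y))
    rw [D.sn, h1, hq] at h2
    have h3 := (D.ind2 h2).1
    have h4 : s (γ • y) = κ * s y := mul_right_cancel₀ (pow_ne_zero 2 hT1) h3
    rw [h4]
    linear_combination (s y) * hκτ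

/-- a 2-element normalising `A` centralises `e(F)` -/
theorem rigid2 (h4 : 4 ≤ Nat.card F) {γ : Γ} (hγ : ∀ t, ∃ t', γ * a t * γ⁻¹ = a t') {k : ℕ} (hk : γ ^ 2 ^ k = 1) :
    ∀ x, γ • e x = e x := by
  obtain ⟨τ, hτ, h1, -, -⟩ := D.rigid h4 hγ
  have h2 : ∀ (m : ℕ) x, γ ^ m • e x = e (τ ^ m * x) := by
    intro m
    induction m with
    | zero => intro x; simp
    | succ m ih =>
      intro x
      rw [pow_succ, mul_smul, h1, ih]
      congr 1
      ring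
  have h3 : τ ^ 2 ^ k = 1 := by
    have := h2 (2 ^ k) 1
    rw [hk, one_smul, mul_one] at this
    exact (D.e_inj this).symm
  have h5 : ∀ k : ℕ, τ ^ 2 ^ k = 1 → τ = 1 := by
    intro k
    induction k with
    | zero => intro h; simpa using h
    | succ k ih =>
      intro h
      apply ih
      apply CharTwo.sq_injective
      change (τ ^ 2 ^ k) ^ 2 = 1 ^ 2
      rw [← pow_mul, ← pow_succ, h, one_pow]
  replace h5 := h5 k h3
  intro x
  rw [h1, h5, one_mul]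

/-- `C` centralises `A` -/
theorem comm_of {γ : Γ} (hγ : ∀ x, γ • e x = e x) (t : F) : γ * a t * γ⁻¹ = a t := by
  have hγ' : ∀ x, γ⁻¹ • e x = e x := fun x => by rw [inv_smul_eq_iff, hγ]
  apply D.ext_act
  intro y
  rw [mul_smul, mul_smul, D.act, D.act, smul_add, smul_add, smul_inv_smul, D.sC γ⁻¹ hγ', hγ, D.gfix]

/-- `C_Γ(A) ≤ C` -/
theorem of_comm (h4 : 4 ≤ Nat.card F) {γ : Γ} (hγ : ∀ t, γ * a t * γ⁻¹ = a t) : ∀ x, γ • e x = e x := by
  obtain ⟨τ, hτ, h1, h2, -⟩ := D.rigid h4 (fun t => ⟨t, hγ t⟩)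
  have h3 : τ = 1 := by
    have := h2 1
    rw [hγ, mul_one] at this
    exact (D.a_inj this).symm
  intro x
  rw [h1, h3, one_mul]

theorem cl_conj (γ : Γ) {x : Γ} (hx : x ∈ Subgroup.closure {x | ∃ (m : Γ) (t : F), x = m * a t * m⁻¹}) :
    γ * x * γ⁻¹ ∈ Subgroup.closure {x | ∃ (m : Γ) (t : F), x = m * a t * m⁻¹} := by
  induction hx using Subgroup.closure_induction with
  | mem x hx =>
    obtain ⟨m, t, rfl⟩ := hx
    apply Subgroup.subset_closure
    exact ⟨γ * m, t, by group⟩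
  | one => simp
  | mul x z _ _ ihx ihz =>
    have : γ * (x * z) * γ⁻¹ = (γ * x * γ⁻¹) * (γ * z * γ⁻¹) := by group
    rw [this]; exact mul_mem ihx ihz
  | inv x _ ihx =>
    have : γ * x⁻¹ * γ⁻¹ = (γ * x * γ⁻¹)⁻¹ := by group
    rw [this]; exact inv_mem ihx

theorem a_cl (t : F) : a t ∈ Subgroup.closure {x | ∃ (m : Γ) (t : F), x = m * a t * m⁻¹} :=
  Subgroup.subset_closure ⟨1, t, by group⟩

/-- (4) for `z₀` -/
theorem cfix0 (h4 : 4 ≤ Nat.card F) : ∃ z₀ : F, z₀ ≠ 0 ∧ IsPGroup 2 D.aS ∧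
    ∀ γ : Γ, γ • e z₀ = e z₀ → ∀ x, γ • e x = e x := by
  obtain ⟨z₀, hz, Q, hQ, hQn, hQa⟩ := D.zero
  have hAQ : D.aS ≤ Q := by
    rintro _ ⟨t, rfl⟩
    exact hQa t
  refine ⟨z₀, hz, hQ.to_le hAQ, ?_⟩
  set Q' := Q ⊓ Subgroup.closure {x | ∃ (m : Γ) (t : F), x = m * a t * m⁻¹} with hQ'
  have hQ'2 : IsPGroup 2 Q' := hQ.to_le inf_le_left
  have hA' : D.aS ≤ Q' := by
    rintro _ ⟨t, rfl⟩
    exact ⟨hQa t, D.a_cl t⟩
  have hle : Q' ≤ D.aS := by
    by_contra hcon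
    obtain ⟨x, hx, hxA, hxn⟩ := grow hQ'2 hA' hcon
    obtain ⟨k, hk⟩ := hQ'2 ⟨x, hx⟩
    have hk' : x ^ 2 ^ k = 1 := by simpa using congrArg Subtype.val hk
    have hxC := D.rigid2 h4 (fun t => by
      obtain ⟨t', ht'⟩ := hxn (a t) ⟨t, rfl⟩
      exact ⟨t', ht'⟩) hk'
    apply hxA
    refine D.core (Q' ⊓ Cen e) (hQ'2.to_le inf_le_left) ?_ (fun x hx => hx.2) (le_trans inf_le_left inf_le_right) x ⟨hx, hxC⟩
    rintro x ⟨⟨hx1, hx2⟩, hx3⟩ c hc
    have hc' : c ∈ Cen (Γ := Γ) e := hc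
    exact ⟨⟨hQn c (hc z₀) x hx1, D.cl_conj c hx2⟩, mul_mem (mul_mem hc' hx3) ((Cen e).inv_mem hc')⟩
  intro γ hγ
  have h1 : ∀ t, ∃ t', γ * a t * γ⁻¹ = a t' := by
    intro t
    exact hle ⟨hQn γ hγ _ (hQa t), D.cl_conj γ (D.a_cl t)⟩
  obtain ⟨τ, hτ, h2, -, -⟩ := D.rigid h4 h1
  have h3 : τ = 1 := by
    have := h2 z₀
    rw [hγ] at this
    have := D.e_inj this
    have h5 : τ * z₀ = 1 * z₀ := by rw [← this, one_mul]
    exact mul_right_cancel₀ hz h5
  intro x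
  rw [h2, h3, one_mul]

/-- (4) -/
theorem cfix (h4 : 4 ≤ Nat.card F) {z : F} (hz : z ≠ 0) {γ : Γ} (hγ : γ • e z = e z) : ∀ x, γ • e x = e x := by
  obtain ⟨z₀, hz₀, -, h0⟩ := D.cfix0 h4
  obtain ⟨h, hh, -⟩ := D.tor (z₀ / z) (div_ne_zero hz₀ hz)
  have h1 : ∀ x, (h * γ * h⁻¹) • e x = e x := by
    apply h0
    have h2 : e z₀ = h • e z := by rw [hh, div_mul_cancel₀ _ hz]
    rw [h2, mul_smul, mul_smul, inv_smul_smul, hγ]
  intro x
  have h3 := h1 (z₀ / z * x)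
  rw [← hh, mul_smul, mul_smul, inv_smul_smul] at h3
  exact smul_left_cancel h h3

theorem cfix' (h4 : 4 ≤ Nat.card F) {z w : F} (hz : z ≠ 0) {γ : Γ} (hγ : γ • (e z + g w) = e z + g w) :
    ∀ x, γ • e x = e x := by
  rw [smul_add, D.gfix, add_left_inj] at hγ
  exact D.cfix h4 hz hγ

/-- **TI** -/
theorem ti (h4 : 4 ≤ Nat.card F) {m : Γ} {x x' w : F} (hx : x ≠ 0) (h : m • e x = e x' + g w) :
    ∃ τ : F, τ ≠ 0 ∧ (∀ z, m • e z = e (τ * z)) ∧ (∀ t, m * a t * m⁻¹ = a (τ * t)) ∧ ∀ y, τ * s (m • y) = s y := by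
  have hx' : x' ≠ 0 := by
    intro h0
    rw [h0, D.e0, zero_add] at h
    have h1 : m • e x = m • g w := by rw [h, D.gfix]
    exact hx (D.ind _ _ (smul_left_cancel m h1)).1
  obtain ⟨z₀, -, hA2, -⟩ := D.cfix0 h4
  apply D.rigid h4
  intro t
  have hcon : ∀ c : Γ, (∀ z, c • e z = e z) → ∀ z, (m⁻¹ * c * m) • e z = e z := by
    intro c hc
    apply D.cfix h4 hx
    rw [mul_smul, mul_smul, h, smul_add, hc, D.gfix, ← h, inv_smul_smul]
  refine D.core (D.aS.map (MulAut.conj m).toMonoidHom) (hA2.map _) ?_ ?_ ?_ _ ⟨a t, ⟨t, rfl⟩, rfl⟩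
  · rintro _ ⟨_, ⟨t, rfl⟩, rfl⟩ c hc
    have h1 := D.comm_of (hcon c hc) t
    refine ⟨a t, ⟨t, rfl⟩, ?_⟩
    simp only [MulEquiv.coe_toMonoidHom, MulAut.conj_apply]
    have h2 : c * (m * a t * m⁻¹) * c⁻¹ = m * ((m⁻¹ * c * m) * a t * (m⁻¹ * c * m)⁻¹) * m⁻¹ := by group
    rw [h2, h1]
  · rintro _ ⟨_, ⟨t, rfl⟩, rfl⟩
    simp only [MulEquiv.coe_toMonoidHom, MulAut.conj_apply]
    apply D.cfix' h4 hx' (w := w)
    rw [← h, mul_smul, mul_smul, inv_smul_smul, D.a_e]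
  · rintro _ ⟨_, ⟨t, rfl⟩, rfl⟩
    simp only [MulEquiv.coe_toMonoidHom, MulAut.conj_apply]
    exact Subgroup.subset_closure ⟨m, t, rfl⟩

theorem s_zero {y : Y} (h : a 1 • y = y) : s y = 0 := by
  rw [D.act, add_assoc, add_eq_left, one_pow, mul_one] at h
  have h1 : e (s y) + g (s y) = e 0 + g 0 := by rw [h, D.e0, D.g0, add_zero]
  exact (D.ind2 h1).1

/-- (SYM) -/
theorem cm_of (h4 : 4 ≤ Nat.card F) {m : Γ} {x : F} (hx : x ≠ 0) (h : s (m • e x) = 0) :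
    (∀ z, s (m • e z) = 0) ∧ ∀ z, s (m⁻¹ • e z) = 0 := by
  have h1 : ∀ t z, (m⁻¹ * a t * m) • e z = e z := by
    intro t
    apply D.cfix h4 hx
    rw [mul_smul, mul_smul, D.act, h, zero_mul, zero_mul, D.e0, D.g0, add_zero, add_zero, inv_smul_smul]
  have h2 : ∀ r z, (m * a r * m⁻¹) • e z = e z := by
    intro r
    apply D.of_comm h4
    intro t
    have h3 : m⁻¹ * a t * m * a r = a r * (m⁻¹ * a t * m) := mul_inv_eq_iff_eq_mul.mp (D.comm_of (h1 t) r)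
    rw [mul_inv_eq_iff_eq_mul]
    calc m * a r * m⁻¹ * a t = m * (a r * (m⁻¹ * a t * m)) * m⁻¹ := by group
      _ = m * (m⁻¹ * a t * m * a r) * m⁻¹ := by rw [h3]
      _ = a t * (m * a r * m⁻¹) := by group
  constructor
  · intro z
    apply D.s_zero
    have h3 := h1 1 z
    rw [mul_smul, mul_smul, inv_smul_eq_iff] at h3
    exact h3
  · intro z
    apply D.s_zero
    have h3 := h2 1 z
    rw [mul_smul, mul_smul, ← eq_inv_smul_iff] at h3
    exact h3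

/-- (5): the form -/
theorem exists_beta (h4 : 4 ≤ Nat.card F) (m : Γ) :
    ∃ β : F, (∀ x, s (m • e x) = β * x) ∧ ∀ x, s (m⁻¹ • e x) = β * x := by
  by_cases hcm : ∃ x : F, x ≠ 0 ∧ s (m • e x) = 0
  · obtain ⟨x, hx, h⟩ := hcm
    obtain ⟨h1, h2⟩ := D.cm_of h4 hx h
    exact ⟨0, fun x => by rw [h1, zero_mul], fun x => by rw [h2, zero_mul]⟩
  push Not at hcm
  have hcm' : ∀ x : F, x ≠ 0 → s (m⁻¹ • e x) ≠ 0 := by
    intro x hx h
    have := (D.cm_of h4 hx h).2 1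
    rw [inv_inv] at this
    exact hcm 1 one_ne_zero this
  obtain ⟨φ, hφ⟩ : ∃ φ : F → F, ∀ x, φ x = s (m • e x) := ⟨_, fun _ => rfl⟩
  obtain ⟨ψ, hψ⟩ : ∃ ψ : F → F, ∀ x, ψ x = s (m⁻¹ • e x) := ⟨_, fun _ => rfl⟩
  have hψ1 : ψ 1 ≠ 0 := by rw [hψ]; exact hcm' 1 one_ne_zero
  have hφ1 : φ (ψ 1) ≠ 0 := by rw [hφ]; exact hcm _ hψ1
  obtain ⟨t, ht⟩ := D.exists_sqrt ((φ (ψ 1))⁻¹)
  have hd : ∀ x, (m * a 1 * m⁻¹) • e x = e x + m • e (ψ x) + g (ψ x) := by
    intro x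
    rw [mul_smul, mul_smul, D.act, smul_add, smul_add, smul_inv_smul, D.gfix, ← hψ, one_pow, mul_one]
  have ha : ∀ x, (a t * m) • e x = m • e x + e (φ x * t ^ 2) + g (φ x * t) := by
    intro x
    rw [mul_smul, D.act, ← hφ]
  have h1 : ((a t * m)⁻¹ * (m * a 1 * m⁻¹)) • e 1 = e (ψ 1) + g (ψ 1 + φ (ψ 1) * t) := by
    rw [mul_smul, inv_smul_eq_iff, hd, smul_add, ha, D.gfix, ht, mul_inv_cancel₀ hφ1, D.g_add]
    have := D.two (g (φ (ψ 1) * t))
    calc e 1 + m • e (ψ 1) + g (ψ 1) = m • e (ψ 1) + e 1 + g (ψ 1) + 0 := by abel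
      _ = m • e (ψ 1) + e 1 + g (ψ 1) + (g (φ (ψ 1) * t) + g (φ (ψ 1) * t)) := by rw [this]
      _ = _ := by abel
  obtain ⟨τ, hτ, h2, -, -⟩ := D.ti h4 one_ne_zero h1
  -- independence
  have hind : ∀ v u w : F, m • e v = e u + g w → v = 0 := by
    intro v u w h
    by_contra hv
    obtain ⟨τ', hτ', h3, -, -⟩ := D.ti h4 hv h
    apply hcm 1 one_ne_zero
    rw [h3, D.se]
  have h3 : ∀ x, ψ x = τ * x ∧ x = φ (τ * x) * t ^ 2 ∧ ψ x = φ (τ * x) * t := by
    intro x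
    have h5 := h2 x
    rw [mul_smul, inv_smul_eq_iff, hd, ha] at h5
    have h6 : m • e (ψ x + τ * x) = e (x + φ (τ * x) * t ^ 2) + g (ψ x + φ (τ * x) * t) := by
      apply D.eq_of_add
      rw [D.e_add, D.e_add, D.g_add, smul_add]
      calc m • e (ψ x) + m • e (τ * x) + (e x + e (φ (τ * x) * t ^ 2) + (g (ψ x) + g (φ (τ * x) * t)))
          = (e x + m • e (ψ x) + g (ψ x)) + (m • e (τ * x) + e (φ (τ * x) * t ^ 2) + g (φ (τ * x) * t)) := by abel
        _ = 0 := by rw [h5, D.two]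
    have h7 := hind _ _ _ h6
    rw [h7, D.e0, smul_zero] at h6
    have h9 : e 0 + g 0 = e (x + φ (τ * x) * t ^ 2) + g (ψ x + φ (τ * x) * t) := by
      rw [← h6, D.e0, D.g0, add_zero]
    have h8 := D.ind2 h9
    exact ⟨CharTwo.add_eq_zero.mp h7, CharTwo.add_eq_zero.mp h8.1.symm, CharTwo.add_eq_zero.mp h8.2.symm⟩
  have hτt : τ * t = 1 := by
    obtain ⟨h5, h6, h7⟩ := h3 1
    rw [h5] at h7
    rw [mul_one] at *
    have : (1 : F) = τ * t := by
      calc (1 : F) = φ τ * t ^ 2 := h6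
        _ = φ τ * t * t := by ring
        _ = τ * t := by rw [← h7]
    exact this.symm
  refine ⟨τ, fun x => ?_, fun x => ?_⟩
  · have h5 := (h3 (τ⁻¹ * x)).2.2
    rw [(h3 (τ⁻¹ * x)).1, ← mul_assoc, mul_inv_cancel₀ hτ, one_mul] at h5
    rw [← hφ]
    linear_combination (-τ) * h5 - (φ x) * hτt
  · rw [← hψ]
    exact (h3 x).1

theorem sym (h4 : 4 ≤ Nat.card F) (m : Γ) (x : F) : s (m⁻¹ • e x) = s (m • e x) := by
  obtain ⟨β, h1, h2⟩ := D.exists_beta h4 m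
  rw [h1, h2]

theorem lin (h4 : 4 ≤ Nat.card F) (m : Γ) (μ x : F) : s (m • e (μ * x)) = μ * s (m • e x) := by
  obtain ⟨β, h1, h2⟩ := D.exists_beta h4 m
  rw [h1, h1]
  ring

/-- elements of `⟨A ^ Γ⟩` in `C` acting on `ker s` into `R` lie in `A` -/
theorem oY {x : Γ} (hx : ∀ z, x • e z = e z) (hcl : x ∈ Subgroup.closure {x | ∃ (m : Γ) (t : F), x = m * a t * m⁻¹})
    (hR : ∀ y, s y = 0 → ∃ u w, x • y = y + e u + g w) : ∃ t, x = a t := by
  -- the subgroup `O_Y`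
  let N : Subgroup Γ :=
    { carrier := {x | (∀ z, x • e z = e z) ∧ x ∈ Subgroup.closure {x | ∃ (m : Γ) (t : F), x = m * a t * m⁻¹} ∧
        ∀ y, s y = 0 → ∃ u w, x • y = y + e u + g w}
      mul_mem' := by
        rintro p q ⟨hp, hp', hp''⟩ ⟨hq, hq', hq''⟩
        refine ⟨fun z => by rw [mul_smul, hq, hp], mul_mem hp' hq', fun y hy => ?_⟩
        obtain ⟨u, w, h⟩ := hq'' y hy
        obtain ⟨u', w', h'⟩ := hp'' y hy
        refine ⟨u + u', w + w', ?_⟩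
        rw [mul_smul, h, smul_add, smul_add, hp, D.gfix, h', D.e_add, D.g_add]
        abel
      one_mem' := ⟨fun z => one_smul _ _, one_mem _, fun y _ => ⟨0, 0, by rw [one_smul, D.e0, D.g0, add_zero, add_zero]⟩⟩
      inv_mem' := by
        rintro p ⟨hp, hp', hp''⟩
        have hpi : ∀ z, p⁻¹ • e z = e z := fun z => by rw [inv_smul_eq_iff, hp]
        refine ⟨hpi, inv_mem hp', fun y hy => ?_⟩
        obtain ⟨u, w, h⟩ := hp'' y hy
        refine ⟨u, w, ?_⟩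
        rw [inv_smul_eq_iff, smul_add, smul_add, hp, D.gfix, h]
        calc y = y + 0 + 0 := by abel
          _ = y + (e u + e u) + (g w + g w) := by rw [D.two, D.two]
          _ = _ := by abel }
  have hN : IsPGroup 2 N := by
    rintro ⟨p, hp, hp', hp''⟩
    refine ⟨2, ?_⟩
    have key : ∀ y, ∃ u w, p ^ 2 • y = y + e u + g w := by
      intro y
      have h1 : s (p • y + y) = 0 := by
        rw [D.s_add, D.sC p hp, CharTwo.add_self_eq_zero]
      obtain ⟨u, w, h⟩ := hp'' _ h1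
      refine ⟨u, w, ?_⟩
      rw [smul_add, ← mul_smul, ← sq] at h
      have h2 : p ^ 2 • y = (p • y + y + e u + g w) + p • y := by
        rw [← h]
        calc p ^ 2 • y = p ^ 2 • y + 0 := by abel
          _ = p ^ 2 • y + (p • y + p • y) := by rw [D.two]
          _ = _ := by abel
      rw [h2]
      calc p • y + y + e u + g w + p • y = (p • y + p • y) + y + e u + g w := by abel
        _ = _ := by rw [D.two, zero_add]
    have h4 : p ^ 2 ^ 2 = 1 := by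
      apply D.faith
      intro y
      obtain ⟨u, w, h⟩ := key y
      have hpp : ∀ z, p ^ 2 • e z = e z := fun z => by rw [sq, mul_smul, hp, hp]
      have : p ^ 2 ^ 2 = p ^ 2 * p ^ 2 := by rw [← pow_add]; norm_num
      rw [this, mul_smul, h, smul_add, smul_add, hpp, D.gfix, h]
      calc y + e u + g w + e u + g w = y + (e u + e u) + (g w + g w) := by abel
        _ = y := by rw [D.two, D.two, add_zero, add_zero]
    exact Subtype.ext h4
  refine D.core N hN ?_ (fun x hx => hx.1) (fun x hx => hx.2.1) x ⟨hx, hcl, hR⟩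
  rintro p ⟨hp, hp', hp''⟩ c hc
  have hci : ∀ z, c⁻¹ • e z = e z := fun z => by rw [inv_smul_eq_iff, hc]
  refine ⟨fun z => by rw [mul_smul, mul_smul, hci, hp, hc], D.cl_conj c hp', fun y hy => ?_⟩
  obtain ⟨u, w, h⟩ := hp'' (c⁻¹ • y) (by rw [D.sC c⁻¹ hci, hy])
  refine ⟨u, w, ?_⟩
  rw [mul_smul, mul_smul, h, smul_add, smul_add, smul_inv_smul, hc, D.gfix]

/-- (6), normalised -/
theorem no_tri (h4 : 4 ≤ Nat.card F) {b d : Γ} (hb : ∀ x, s (b • e x) = 0) (hd : ∀ x, s (d • e x) = x)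
    (hbd : ∀ x, s (b⁻¹ • d • e x) = x) :
    ∃ τ : F, τ ≠ 0 ∧ (∀ z, b • e z = e (τ * z)) ∧ (∀ t, b * a t * b⁻¹ = a (τ * t)) ∧ ∀ y, τ * s (b • y) = s y := by
  have hb' : ∀ x, s (b⁻¹ • e x) = 0 := (D.cm_of h4 one_ne_zero (hb 1)).2
  have hd' : ∀ x, s (d⁻¹ • e x) = x := by
    obtain ⟨β, h1, h2⟩ := D.exists_beta h4 d
    have : β = 1 := by
      have := h1 1
      rw [hd, mul_one] at this
      exact this.symm
    intro x
    rw [h2, this, one_mul]
  have hdb : ∀ x, s (d⁻¹ • b • e x) = x := by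
    obtain ⟨β, h1, h2⟩ := D.exists_beta h4 (b⁻¹ * d)
    have : β = 1 := by
      have := h1 1
      rw [mul_smul, hbd, mul_one] at this
      exact this.symm
    intro x
    have h3 := h2 x
    rw [mul_inv_rev, inv_inv, mul_smul] at h3
    rw [h3, this, one_mul]
  -- a parameter
  obtain ⟨t, ht0, ht1⟩ := exists_par h4
  have ht : 1 + t ≠ 0 := fun h => ht1 (CharTwo.add_eq_zero.mp h).symm
  obtain ⟨u, hu⟩ : ∃ u : F, (1 + t) * u = 1 := ⟨(1 + t)⁻¹, mul_inv_cancel₀ ht⟩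
  have h20 : (2 : F) = 0 := CharTwo.two_eq_zero
  -- the element `m₃`
  obtain ⟨m, hm⟩ : ∃ m, m = (d * a u * d⁻¹) * ((b * a t * b⁻¹) * (d * a 1 * d⁻¹)) := ⟨_, rfl⟩
  have act_d : ∀ r y, (d * a r * d⁻¹) • y = y + d • e (s (d⁻¹ • y) * r ^ 2) + g (s (d⁻¹ • y) * r) := by
    intro r y
    rw [mul_smul, mul_smul, D.act, smul_add, smul_add, smul_inv_smul, D.gfix]
  have act_b : ∀ r y, (b * a r * b⁻¹) • y = y + b • e (s (b⁻¹ • y) * r ^ 2) + g (s (b⁻¹ • y) * r) := by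
    intro r y
    rw [mul_smul, mul_smul, D.act, smul_add, smul_add, smul_inv_smul, D.gfix]
  have hme : ∀ x, m • e x = e x + b • e (t ^ 2 * x) := by
    intro x
    have e1 : (d * a 1 * d⁻¹) • e x = e x + d • e x + g x := by
      rw [act_d, hd', one_pow, mul_one]
    have e2 : (b * a t * b⁻¹) • (e x + d • e x + g x) = e x + d • e x + g x + b • e (t ^ 2 * x) + g (t * x) := by
      rw [act_b, smul_add, smul_add, D.s_add, D.s_add, hb', hbd, D.gfix, D.sg, zero_add, add_zero, mul_comm x, mul_comm x]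
    have e3 : s (d⁻¹ • (e x + d • e x + g x + b • e (t ^ 2 * x) + g (t * x))) = x + t ^ 2 * x := by
      rw [smul_add, smul_add, smul_add, smul_add, D.s_add, D.s_add, D.s_add, D.s_add, hd', inv_smul_smul, D.se, hdb,
        D.gfix, D.gfix, D.sg, D.sg]
      ring
    have f1 : (x + t ^ 2 * x) * u ^ 2 = x := by
      linear_combination (x * (1 + t) * u + x) * hu - (t * u ^ 2 * x) * h20
    have f2 : (x + t ^ 2 * x) * u = x + t * x := by
      linear_combination (x * (1 + t)) * hu - (t * u * x) * h20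
    rw [hm, mul_smul (d * a u * d⁻¹), mul_smul (b * a t * b⁻¹), e1, e2, act_d, e3, f1, f2, D.g_add]
    calc e x + d • e x + g x + b • e (t ^ 2 * x) + g (t * x) + d • e x + (g x + g (t * x))
        = e x + b • e (t ^ 2 * x) + (d • e x + d • e x) + (g x + g x) + (g (t * x) + g (t * x)) := by abel
      _ = _ := by rw [D.two, D.two, D.two, add_zero, add_zero, add_zero]
  have hgen : ∀ (c : Γ) x, s (m⁻¹ • c • e x) = s (c • e x) + t ^ 2 * s (b⁻¹ • c • e x) := by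
    intro c x
    have e1 : s ((m⁻¹ * c) • e x) = s ((m⁻¹ * c)⁻¹ • e x) := (D.sym h4 _ x).symm
    have e2 : s ((c⁻¹ * b) • e x) = s ((c⁻¹ * b)⁻¹ • e x) := (D.sym h4 _ x).symm
    rw [← mul_smul, e1, mul_inv_rev, inv_inv, mul_smul, hme, smul_add, D.s_add, D.sym h4 c, ← mul_smul c⁻¹,
      D.lin h4, e2, mul_inv_rev, inv_inv, mul_smul]
  have hms : ∀ y, s (m⁻¹ • y) = s y + t ^ 2 * s (b⁻¹ • y) := by
    let H : AddSubgroup Y :=
      { carrier := {y | s (m⁻¹ • y) = s y + t ^ 2 * s (b⁻¹ • y)}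
        add_mem' := by
          intro y z hy hz
          change s (m⁻¹ • (y + z)) = s (y + z) + t ^ 2 * s (b⁻¹ • (y + z))
          rw [smul_add, smul_add, D.s_add, D.s_add, D.s_add, hy, hz]
          ring
        zero_mem' := by
          change s (m⁻¹ • (0 : Y)) = s 0 + t ^ 2 * s (b⁻¹ • (0 : Y))
          rw [smul_zero, smul_zero, D.s0]
          ring
        neg_mem' := by
          intro y hy
          change s (m⁻¹ • (-y)) = s (-y) + t ^ 2 * s (b⁻¹ • (-y))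
          rw [D.neg_eq]
          exact hy }
    have hH : H = ⊤ := by
      apply D.gen
      · intro x
        have := hgen 1 x
        rw [one_smul] at this
        exact this
      · intro x
        change s (m⁻¹ • g x) = s (g x) + t ^ 2 * s (b⁻¹ • g x)
        rw [D.gfix, D.gfix, D.sg]
        ring
      · intro c _ x
        have := hgen (c * n) x
        rw [mul_smul] at this
        exact this
    intro y
    have : y ∈ H := by rw [hH]; trivial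
    exact this
  -- first element
  have hX : ∀ y, s y = 0 → ((b * a (t ^ 2) * b⁻¹) * (m * a 1 * m⁻¹)) • y = y + e (t ^ 2 * s (b⁻¹ • y)) := by
    intro y hy
    obtain ⟨σ, hσ⟩ : ∃ σ, σ = s (b⁻¹ • y) := ⟨_, rfl⟩
    have e1 : (m * a 1 * m⁻¹) • y = y + (e (t ^ 2 * σ) + b • e (t ^ 2 * (t ^ 2 * σ))) + g (t ^ 2 * σ) := by
      rw [mul_smul, mul_smul, D.act, smul_add, smul_add, smul_inv_smul, D.gfix, hms, hy, ← hσ, zero_add, one_pow,
        mul_one, hme]
    have e2 : s (b⁻¹ • (y + (e (t ^ 2 * σ) + b • e (t ^ 2 * (t ^ 2 * σ))) + g (t ^ 2 * σ))) = σ := by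
      rw [smul_add, smul_add, smul_add, D.s_add, D.s_add, D.s_add, hb', inv_smul_smul, D.se, D.gfix, D.sg, ← hσ]
      ring
    rw [mul_smul, e1, act_b, e2, ← hσ]
    have f1 : σ * (t ^ 2) ^ 2 = t ^ 2 * (t ^ 2 * σ) := by ring
    rw [f1, mul_comm σ (t ^ 2)]
    calc y + (e (t ^ 2 * σ) + b • e (t ^ 2 * (t ^ 2 * σ))) + g (t ^ 2 * σ) + b • e (t ^ 2 * (t ^ 2 * σ)) + g (t ^ 2 * σ)
        = y + e (t ^ 2 * σ) + (b • e (t ^ 2 * (t ^ 2 * σ)) + b • e (t ^ 2 * (t ^ 2 * σ)))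
          + (g (t ^ 2 * σ) + g (t ^ 2 * σ)) := by abel
      _ = _ := by rw [D.two, D.two, add_zero, add_zero]
  have hcl : ∀ (p q : Γ) (r r' : F), (p * a r * p⁻¹) * (q * a r' * q⁻¹) ∈
      Subgroup.closure {x | ∃ (m : Γ) (t : F), x = m * a t * m⁻¹} := fun p q r r' =>
    mul_mem (Subgroup.subset_closure ⟨p, r, rfl⟩) (Subgroup.subset_closure ⟨q, r', rfl⟩)
  have hker : ∀ y, s y = 0 → s (b⁻¹ • y) = 0 := by
    have hXC : ∀ z, ((b * a (t ^ 2) * b⁻¹) * (m * a 1 * m⁻¹)) • e z = e z := by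
      intro z
      rw [hX _ (D.se z), hb', mul_zero, D.e0, add_zero]
    obtain ⟨r, hr⟩ := D.oY hXC (hcl _ _ _ _) (fun y hy => ⟨t ^ 2 * s (b⁻¹ • y), 0, by rw [hX y hy, D.g0, add_zero]⟩)
    intro y hy
    have h1 := hX y hy
    rw [hr, D.act, hy, zero_mul, zero_mul, D.e0, D.g0, add_zero, add_zero] at h1
    have h2 : e (t ^ 2 * s (b⁻¹ • y)) = e 0 := by
      rw [D.e0]
      exact (add_eq_left.mp h1.symm)
    have h3 := D.e_inj h2
    rcases mul_eq_zero.mp h3 with h5 | h5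
    · exact absurd (pow_eq_zero_iff (two_ne_zero)|>.mp h5) ht0
    · exact h5
  have hsb : ∀ y, s (b⁻¹ • y) = s y := by
    intro y
    have h1 := hker (y + d • e (s y)) (by rw [D.s_add, hd, CharTwo.add_self_eq_zero])
    rw [smul_add, D.s_add, hbd] at h1
    exact CharTwo.add_eq_zero.mp h1
  have hW : ∀ y, ((1 * a 1 * 1⁻¹) * (b * a 1 * b⁻¹)) • y = y + b • e (s y) + e (s y) := by
    intro y
    rw [one_mul, inv_one, mul_one, mul_smul, act_b, hsb, D.act, D.s_add, D.s_add, D.sg, hb, add_zero, add_zero, one_pow, mul_one]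
    calc y + b • e (s y) + g (s y) + e (s y) + g (s y) = y + b • e (s y) + e (s y) + (g (s y) + g (s y)) := by abel
      _ = _ := by rw [D.two, add_zero]
  have hW0 : ∀ y, s y = 0 → ((1 * a 1 * 1⁻¹) * (b * a 1 * b⁻¹)) • y = y := by
    intro y hy
    rw [hW, hy, D.e0, smul_zero, add_zero, add_zero]
  obtain ⟨r, hr⟩ := D.oY (fun z => hW0 _ (D.se z)) (hcl 1 b 1 1)
    (fun y hy => ⟨0, 0, by rw [hW0 y hy, D.e0, D.g0, add_zero, add_zero]⟩)
  have h1 := hW (d • e 1)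
  rw [hr, D.act, hd, one_mul, one_mul] at h1
  have h2 : b • e 1 = e (r ^ 2 + 1) + g r := by
    have h3 : e (r ^ 2) + g r = b • e 1 + e 1 := by
      have : d • e 1 + (e (r ^ 2) + g r) = d • e 1 + (b • e 1 + e 1) := by rw [← add_assoc, h1, add_assoc]
      exact add_left_cancel this
    rw [D.e_add]
    calc b • e 1 = b • e 1 + (e 1 + e 1) := by rw [D.two, add_zero]
      _ = (b • e 1 + e 1) + e 1 := by abel
      _ = e (r ^ 2) + g r + e 1 := by rw [h3]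
      _ = _ := by abel
  exact D.ti h4 one_ne_zero h2

/-- **(6)** -/
theorem no_tri' (h4 : 4 ≤ Nat.card F) {b d : Γ} (hb : ∀ x, s (b • e x) = 0) (hd : s (d • e 1) ≠ 0)
    (hbd : s (b⁻¹ • d • e 1) ≠ 0) :
    ∃ τ : F, τ ≠ 0 ∧ (∀ z, b • e z = e (τ * z)) ∧ (∀ t, b * a t * b⁻¹ = a (τ * t)) ∧ ∀ y, τ * s (b • y) = s y := by
  obtain ⟨δ, hδ⟩ : ∃ δ, δ = s (d • e 1) := ⟨_, rfl⟩
  obtain ⟨ε, hε⟩ : ∃ ε, ε = s (b⁻¹ • d • e 1) := ⟨_, rfl⟩
  rw [← hδ] at hd
  rw [← hε] at hbd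
  have hd1 : ∀ x, s (d • e x) = δ * x := by
    intro x
    have := D.lin h4 d x 1
    rw [mul_one] at this
    rw [this, hδ, mul_comm]
  have hbd1 : ∀ x, s (b⁻¹ • d • e x) = ε * x := by
    intro x
    have := D.lin h4 (b⁻¹ * d) x 1
    rw [mul_one, mul_smul, mul_smul] at this
    rw [this, hε, mul_comm]
  obtain ⟨h, hh, -⟩ := D.tor δ⁻¹ (inv_ne_zero hd)
  obtain ⟨μ, hμ⟩ : ∃ μ, μ = δ * ε⁻¹ := ⟨_, rfl⟩
  have hμ0 : μ ≠ 0 := by rw [hμ]; exact mul_ne_zero hd (inv_ne_zero hbd)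
  obtain ⟨k, hk, hk'⟩ := D.tor μ hμ0
  obtain ⟨τ, -, h1, -, h3⟩ := D.rigid h4 (γ := k) (fun t => ⟨_, hk' t⟩)
  have hτ : τ = μ := by
    have h5 := h1 1
    rw [hk, mul_one, mul_one] at h5
    exact (D.e_inj h5).symm
  have hks : ∀ y, s (k⁻¹ • y) = μ * s y := by
    intro y
    have h5 := h3 (k⁻¹ • y)
    rw [smul_inv_smul, hτ] at h5
    exact h5.symm
  obtain ⟨τ', -, h5, -, -⟩ := D.no_tri h4 (b := b * k) (d := d * h)
    (by intro x; rw [mul_smul, hk, hb])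
    (by intro x; rw [mul_smul, hh, hd1, mul_inv_cancel_left₀ hd])
    (by
      intro x
      rw [mul_inv_rev, mul_smul, mul_smul, hh, hks, hbd1, hμ]
      field_simp)
  have h6 : b • e 1 = e (τ' * μ⁻¹) + g 0 := by
    have h7 := h5 μ⁻¹
    rw [mul_smul, hk, mul_inv_cancel₀ hμ0] at h7
    rw [h7, D.g0, add_zero]
  exact D.ti h4 one_ne_zero h6

end Dat

variable {F : Type*} [Field F] [Finite F] [CharP F 2] {Γ : Type*} [Group Γ] [Finite Γ]
  {Y : Type*} [AddCommGroup Y] [DistribMulAction Γ Y]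
  {a : F → Γ} {e g : F → Y} {s : Y → F} {n : Γ}

/-- **(9) of CvNonsplit, abstract form**: `C = A` and `Y = N_1`. -/
theorem main (D : Dat Γ a e g s n) (h4 : 4 ≤ Nat.card F) :
    (∀ γ : Γ, (∀ x, γ • e x = e x) → ∃ t, γ = a t) ∧ ∀ y : Y, ∃ x w z, y = e x + g w + n • e z := by
  have key : ∀ c : Γ, (∀ x, c • e x = e x) → ∃ t, ∀ z, c • n • e z = a t • n • e z := by
    intro c hc
    have hci : ∀ z, c⁻¹ • e z = e z := fun z => by rw [inv_smul_eq_iff, hc]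
    obtain ⟨t, ht⟩ := D.exists_sqrt (s (n⁻¹ • c⁻¹ • n • e 1))
    have hβ : ∀ x, s (n⁻¹ • c⁻¹ • n • e x) = x * t ^ 2 := by
      intro x
      have := D.lin h4 (n⁻¹ * c⁻¹ * n) x 1
      rw [mul_one, mul_smul, mul_smul, mul_smul, mul_smul] at this
      rw [this, ht]
    obtain ⟨b, hb⟩ : ∃ b, b = (a t * n)⁻¹ * (c * n) := ⟨_, rfl⟩
    have h1 : ∀ x, s (b⁻¹ • e x) = 0 := by
      intro x
      have h2 : b⁻¹ = n⁻¹ * c⁻¹ * (a t * n) := by rw [hb]; group
      rw [h2, mul_smul, mul_smul, mul_smul, D.act, D.sn, smul_add, smul_add, smul_add, smul_add, hci, D.gfix, D.gfix,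
        D.s_add, D.s_add, hβ, D.sym h4, D.sn, D.sg, add_zero, CharTwo.add_self_eq_zero]
    have h2 : ∀ x, s (b • e x) = 0 := fun x => by rw [← D.sym h4, h1]
    obtain ⟨τ, -, h3, -, -⟩ := D.no_tri' h4 (b := b) (d := (a t * n)⁻¹) h2
      (by
        rw [D.sym h4, mul_smul, D.s_act, D.sn]
        exact one_ne_zero)
      (by
        have h5 : b⁻¹ * (a t * n)⁻¹ = (c * n)⁻¹ := by rw [hb]; group
        rw [← mul_smul, h5, D.sym h4, mul_smul, D.sC c hc, D.sn]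
        exact one_ne_zero)
    have h5 : ∀ z, c • n • e z = a t • n • e (τ * z) := by
      intro z
      have h6 := h3 z
      rw [hb, mul_smul, inv_smul_eq_iff, mul_smul, mul_smul] at h6
      exact h6
    have h6 : τ = 1 := by
      have h7 := congrArg s (h5 1)
      rw [D.sC c hc, D.sn, D.s_act, D.sn, mul_one] at h7
      exact h7.symm
    refine ⟨t, fun z => ?_⟩
    rw [h5, h6, one_mul]
  have hY : ∀ y : Y, ∃ x w z, y = e x + g w + n • e z := by
    let H : AddSubgroup Y :=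
      { carrier := {y | ∃ x w z, y = e x + g w + n • e z}
        add_mem' := by
          rintro _ _ ⟨x, w, z, rfl⟩ ⟨x', w', z', rfl⟩
          refine ⟨x + x', w + w', z + z', ?_⟩
          rw [D.e_add, D.e_add, D.g_add, smul_add]
          abel
        zero_mem' := ⟨0, 0, 0, by rw [D.e0, D.g0, smul_zero, add_zero, add_zero]⟩
        neg_mem' := by
          rintro _ ⟨x, w, z, rfl⟩
          exact ⟨x, w, z, D.neg_eq _⟩ }
    have hH : H = ⊤ := by
      apply D.gen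
      · intro x
        exact ⟨x, 0, 0, by rw [D.e0, D.g0, smul_zero, add_zero, add_zero]⟩
      · intro x
        exact ⟨0, x, 0, by rw [D.e0, smul_zero, zero_add, add_zero]⟩
      · intro c hc x
        obtain ⟨t, ht⟩ := key c hc
        refine ⟨x * t ^ 2, x * t, x, ?_⟩
        rw [ht, D.act, D.sn]
        abel
    intro y
    have : y ∈ H := by rw [hH]; trivial
    exact this
  refine ⟨fun c hc => ?_, hY⟩
  obtain ⟨t, ht⟩ := key c hc
  refine ⟨t, D.ext_act fun y => ?_⟩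
  obtain ⟨x, w, z, rfl⟩ := hY y
  rw [smul_add, smul_add, smul_add, smul_add, hc, D.a_e, D.gfix, D.gfix, ht]

end Cfsg.Agent.Omega.IId.NsK.Nine
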